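import Cfsg.Agent.GAL.Red.Bwd
import Cfsg.Agent.H627.BR.EasyCore
import Cfsg.Agent.S4646

/-!
# S4617 and S4618 from the boxes of the simple groups (helper20, GAL)
-/

set_option autoImplicit false

namespace Cfsg.Agent.GAL

open Cfsg Cfsg.Agent.H601.K4 Cfsg.Agent.TAB.Use Cfsg.Agent.ODD.Red Cfsg.Agent.Characters
open Cfsg.Agent.Characters.Core Cfsg.Agent.Blocks.Local Subgroup

universe u

variable {G : Type u} [Group G] [Finite G]

theorem dg_iff_fg (hB : AllBox.{u}) (P : Sylow 2 G) : DG P ↔ FG G := ⟨fg_of_dg hB, dg_of_fg hB P⟩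

theorem dg_iff_compl (P : Sylow 2 G) : DG P ↔ HasNormalPComplement 2 (normalizer ((P : Subgroup G) : Set G)) := by
  have := fact2
  constructor
  · intro h
    exact H627.BR.hasCompl P fun g hg hn x hx => (h g (mem_normalizer_fintype hn) (odd_iff'.2 hg) x hx).symm
  · intro h
    obtain ⟨K, -, -, h1, h2⟩ := H627.BR.exists_compl P h
    refine (dg_iff P).2 fun g hg => ?_
    obtain ⟨k, hk, x, hx, h3⟩ := h2 ⟨g, hg⟩
    have h4 : g = k * x := congrArg Subtype.val h3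
    rw [h4]
    exact mul_mem (cent_le_PC _ fun y hy => (h1 k hk y hy).symm) (le_PC _ hx)

/-- **S4618 from the boxes** -/
theorem s4618_of (hB : AllBox.{u}) (P : Sylow 2 G) (M : Ideal AlgInt) (hM : IsPModular 2 M) (k : ℕ)
    (hk₁ : ∀ g : G, (∃ j : ℕ, orderOf g = 2 ^ j) → g ^ k = g) (hk₂ : ∀ g : G, Odd (orderOf g) → g ^ k = g ^ 2) :
    blockRank 2 (principalBlock M (normalizer ((P : Subgroup G) : Set G))) = 1 ↔
      ∀ χ : IrrCharacter G, χ ∈ principalBlock M G → Odd (charDegree (χ : G → ℂ)) →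
        ∀ g : G, (χ : G → ℂ) (g ^ k) = (χ : G → ℂ) g := by
  have := fact2
  have := Fintype.ofFinite (normalizer ((P : Subgroup G) : Set G))
  obtain ⟨σ, hσ⟩ := exists_sig
  have h1 : blockRank 2 (principalBlock M (normalizer ((P : Subgroup G) : Set G))) = 1 ↔ FG G := by
    rw [← dg_iff_fg hB P, dg_iff_compl]
    exact ⟨S4646.compl_of_rank_one hM, S4646.rank_one_of_compl hM⟩
  rw [h1]
  constructor
  · intro h χ hχ ho
    exact (fix_iff_pow hσ hk₁ hk₂ (isIrr_isCharacter χ.2)).1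
      (h _ ⟨χ.2, odd_iff'.1 ho⟩ (H740.K4.inB0_of_mem hM hχ) σ hσ)
  · intro h χ hχ hb τ hτ
    exact (fix_iff_pow hτ hk₁ hk₂ (isIrr_isCharacter hχ.1)).2 (h ⟨χ, hχ.1⟩ (hb M hM hχ.1) (odd_iff'.2 hχ.2))

theorem self_iff_oddSig (hB : AllBox.{u}) (P : Sylow 2 G) :
    normalizer ((P : Subgroup G) : Set G) = (P : Subgroup G) ↔ OddSig G := by
  have := fact2
  constructor
  · intro h χ hχ ho
    have h1 : OddIrr χ := ⟨hχ, odd_iff'.1 ho⟩
    exact fg_of_dg hB (dg_of_self P h.le) χ h1 (inB0_of_le P ((centralizer_le_normalizer _).trans h.le) h1)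
  · intro h
    obtain ⟨M, hM⟩ := Cfsg.Agent.Blocks.ExistsModular.exists_isPModular Nat.prime_two
    refine le_antisymm (fun g hg => ?_) le_normalizer
    by_contra hne
    obtain ⟨β, hβ, hβ1⟩ := exists_hom_of_odd ((P : Subgroup G).subgroupOf (normalizer ((P : Subgroup G) : Set G)))
      (fun h2 => P.not_dvd_index (h2.trans (Dvd.intro _ (relIndex_mul_index le_normalizer))))
      fun ht => hne (subgroupOf_eq_top.1 ht hg)
    obtain ⟨χ, h1, -, h3⟩ := exists_moved hM P (dg_of_fg hB P (fg_of_oddSig h)) β hβ hβ1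
    obtain ⟨σ, hσ⟩ := exists_sig
    exact h3 σ hσ (h χ h1.1 (odd_iff'.2 h1.2) σ hσ)

/-- **S4617 from the boxes** -/
theorem s4617_of (hB : AllBox.{u}) (P : Sylow 2 G) (k : ℕ)
    (hk₁ : ∀ g : G, (∃ j : ℕ, orderOf g = 2 ^ j) → g ^ k = g) (hk₂ : ∀ g : G, Odd (orderOf g) → g ^ k = g ^ 2) :
    normalizer ((P : Subgroup G) : Set G) = (P : Subgroup G) ↔
      ∀ χ : IrrCharacter G, Odd (charDegree (χ : G → ℂ)) → ∀ g : G, (χ : G → ℂ) (g ^ k) = (χ : G → ℂ) g := by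
  obtain ⟨σ, hσ⟩ := exists_sig
  rw [self_iff_oddSig hB P]
  constructor
  · intro h χ ho
    exact (fix_iff_pow hσ hk₁ hk₂ (isIrr_isCharacter χ.2)).1 (h _ χ.2 ho σ hσ)
  · intro h χ hχ ho τ hτ
    exact (fix_iff_pow hτ hk₁ hk₂ (isIrr_isCharacter hχ)).2 (h ⟨χ, hχ⟩ ho)

end Cfsg.Agent.GAL
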