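import Cfsg.Agent.GAL.Red.Fwd
import Cfsg.Agent.H893.Sd.Lift
import Cfsg.Agent.H627.BR.Fix
import Cfsg.Agent.H133.PB.Basic

/-!
# `FG G → DG P` (helper20, GAL)

* `mem_map_PC` : modulo a normal subgroup, `N_G(P) = P C_G(P)`;
* `cent_comm`, `cent_nab` : the elements of odd order of `N ∩ N_G(P)` centralize `P`.
-/

set_option autoImplicit false

namespace Cfsg.Agent.GAL

open Cfsg Cfsg.Agent.H601.K4 Cfsg.Agent.TAB.Use Cfsg.Agent.ODD.Red Cfsg.Agent.Characters
open Cfsg.Agent.Characters.Core Cfsg.Agent.Blocks.Local Cfsg.Agent.Blocks.Basic Subgroup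
open Cfsg.Agent.H803.S74
open scoped Pointwise

universe u v

section grp

variable {G : Type u} [Group G]

theorem conj_mem_cent {P : Subgroup G} {h c : G} (hh : h ∈ normalizer (P : Set G))
    (hc : c ∈ centralizer (P : Set G)) : h * c * h⁻¹ ∈ centralizer (P : Set G) := by
  intro x hx
  have h1 := hc _ ((mem_normalizer_iff.1 (inv_mem hh) x).1 hx)
  rw [inv_inv] at h1
  calc x * (h * c * h⁻¹) = h * (h⁻¹ * x * h * c) * h⁻¹ := by group
    _ = h * c * h⁻¹ * x := by rw [h1]; group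

/-- the subgroup `P C_G(P)` -/
def PC (P : Subgroup G) : Subgroup G where
  carrier := {x | ∃ u ∈ P, ∃ c ∈ centralizer (P : Set G), x = u * c}
  one_mem' := ⟨1, one_mem _, 1, one_mem _, (one_mul 1).symm⟩
  mul_mem' := by
    rintro _ _ ⟨u, hu, c, hc, rfl⟩ ⟨v, hv, d, hd, rfl⟩
    refine ⟨u * v, mul_mem hu hv, c * d, mul_mem hc hd, ?_⟩
    rw [mul_assoc, ← mul_assoc c, ← hc v hv]
    group
  inv_mem' := by
    rintro _ ⟨u, hu, c, hc, rfl⟩
    refine ⟨u⁻¹, inv_mem hu, c⁻¹, inv_mem hc, ?_⟩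
    rw [hc u hu, mul_inv_rev]

theorem le_PC (P : Subgroup G) : P ≤ PC P := fun u hu => ⟨u, hu, 1, one_mem _, (mul_one u).symm⟩

theorem cent_le_PC (P : Subgroup G) : centralizer (P : Set G) ≤ PC P :=
  fun c hc => ⟨1, one_mem _, c, hc, (one_mul c).symm⟩

theorem PC_le (P : Subgroup G) : PC P ≤ normalizer (P : Set G) := by
  rintro _ ⟨u, hu, c, hc, rfl⟩
  exact mul_mem (le_normalizer hu) (centralizer_le_normalizer _ hc)

theorem conj_mem_PC {P : Subgroup G} {h x : G} (hh : h ∈ normalizer (P : Set G)) (hx : x ∈ PC P) :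
    h * x * h⁻¹ ∈ PC P := by
  obtain ⟨u, hu, c, hc, rfl⟩ := hx
  exact ⟨h * u * h⁻¹, (mem_normalizer_iff.1 hh u).1 hu, h * c * h⁻¹, conj_mem_cent hh hc, by group⟩

/-- the elements of odd order of `P C_G(P)` -/
theorem cent_of_PC {P : Subgroup G} (hP : IsPGroup 2 P) {y : G} (hy : y ∈ PC P) (ho : Odd (orderOf y)) :
    y ∈ centralizer (P : Set G) := by
  have := fact2
  obtain ⟨u, hu, c, hc, rfl⟩ := hy
  have hN : u * c ∈ normalizer (P : Set G) := PC_le P ⟨u, hu, c, hc, rfl⟩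
  exact H627.BR.mem_of_mem_sup (P := P.subgroupOf (normalizer (P : Set G)))
    (K := (centralizer (P : Set G)).subgroupOf (normalizer (P : Set G))) hP.comap_subtype (g := ⟨u * c, hN⟩)
    (mul_mem_sup (x := (⟨u, le_normalizer hu⟩ : normalizer (P : Set G)))
      (y := ⟨c, centralizer_le_normalizer _ hc⟩) hu hc)
    (odd_iff'.1 (by rwa [orderOf_mk]))

theorem dg_iff [Finite G] (P : Sylow 2 G) : DG P ↔ normalizer ((P : Subgroup G) : Set G) ≤ PC P := by
  refine ⟨fun h x hx => ?_, fun h y hy ho => cent_of_PC P.isPGroup' (h hy) ho⟩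
  obtain ⟨u, hu, y, hy, ho, rfl⟩ := exists_decomp_norm P hx
  exact ⟨u, hu, y, h y (zpowers_le.2 hx hy) ho, rfl⟩

/-- the abelian case -/
theorem cent_comm {P : Subgroup G} (hP : IsPGroup 2 P) (N : Subgroup G) [hN : N.Normal]
    (hc : ∀ x ∈ N, ∀ y ∈ N, Commute x y) {n : G} (hn : n ∈ N) (hnP : n ∈ normalizer (P : Set G))
    (ho : Odd (orderOf n)) : n ∈ centralizer (P : Set G) := by
  intro x hx
  have h1 : n * (x * n⁻¹ * x⁻¹) ∈ P := by
    have h2 := mul_mem ((mem_normalizer_iff.1 hnP x).1 hx) (inv_mem hx)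
    rwa [show n * x * n⁻¹ * x⁻¹ = n * (x * n⁻¹ * x⁻¹) by group] at h2
  have h2 : (n * (x * n⁻¹ * x⁻¹)) ^ orderOf n = 1 := by
    rw [(hc n hn _ (hN.conj_mem _ (inv_mem hn) x)).mul_pow, conj_pow, inv_pow, pow_orderOf_eq_one]
    group
  have h3 := eq_one_of_odd_of_mem hP h1 (Odd.of_dvd_nat ho (orderOf_dvd_of_pow_eq_one h2))
  calc x * n = n * (x * n⁻¹ * x⁻¹) * (x * n) := by rw [h3, one_mul]
    _ = n * x := by group

/-- two Sylow subgroups in a subgroup -/
theorem exists_mul_norm [Finite G] (P : Sylow 2 G) {I : Subgroup G} (h1 : (P : Subgroup G) ≤ I) {g : G}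
    (h2 : ∀ x ∈ (P : Subgroup G), g * x * g⁻¹ ∈ I) : ∃ i ∈ I, i * g ∈ normalizer ((P : Subgroup G) : Set G) := by
  have := fact2
  have h3 : ((g • P : Sylow 2 G) : Subgroup G) ≤ I := by
    rintro _ ⟨x, hx, rfl⟩
    exact h2 x hx
  obtain ⟨i, hi⟩ := MulAction.exists_smul_eq I ((g • P).subtype h3) (P.subtype h1)
  rw [Sylow.smul_subtype] at hi
  refine ⟨i, i.2, Sylow.smul_eq_iff_mem_normalizer.1 ?_⟩
  rw [mul_smul]
  exact Sylow.subtype_injective hi

end grp

section char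

variable {G : Type u} [Group G] [Finite G]

omit [Finite G] in
theorem inB0_comp {H : Type v} [Group H] (f : G →* H) (hf : Function.Surjective f) {γ : H → ℂ}
    (hγ : IsIrrCharacter H γ) (hb : InB0 γ) : InB0 (fun g => γ (f g)) := by
  intro M hM _
  have := isPrime_of_isPModular hM
  exact H133.PB.mem_principalBlock_comp f hf (hb M hM hγ)

omit [Finite G] in
/-- `FG` passes to quotients -/
theorem FG.quot (hF : FG G) {H : Type u} [Group H] (f : G →* H) (hf : Function.Surjective f) : FG H := by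
  intro γ h1 h2 σ hσ h
  obtain ⟨g, rfl⟩ := hf h
  exact hF _ (oddIrr_comp hf h1) (inB0_comp f hf h1.1 h2) σ hσ g

/-- modulo the kernel, `N_G(P) = P C_G(P)` -/
theorem mem_map_PC (hF : FG G) (P : Sylow 2 G) {H : Type u} [Group H] [Finite H] (f : G →* H)
    (hf : Function.Surjective f) (hD : DG (haveI := fact2; P.mapSurjective hf)) {h : H}
    (hh : h ∈ normalizer (((P : Subgroup G).map f : Subgroup H) : Set H)) : h ∈ (PC (P : Subgroup G)).map f := by
  have := fact2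
  obtain ⟨M, hM⟩ := Cfsg.Agent.Blocks.ExistsModular.exists_isPModular Nat.prime_two
  have := isPrime_of_isPModular hM
  let R : Sylow 2 H := P.mapSurjective hf
  let L := ((PC (P : Subgroup G)).map f).subgroupOf (normalizer ((R : Subgroup H) : Set H))
  have hL : L.Normal := ⟨by
    rintro x ⟨l, hl, hx⟩ g
    obtain ⟨k, hk, hg⟩ := exists_lift_norm P f hf g.2
    refine ⟨_, conj_mem_PC hk hl, ?_⟩
    rw [map_mul, map_mul, map_inv, hx, hg]
    rfl⟩
  have hRL : (R : Subgroup H).subgroupOf _ ≤ L := comap_mono (map_mono (le_PC _))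
  have hLi : ¬ 2 ∣ L.index := fun h2 => R.not_dvd_index
    (h2.trans ((index_dvd_of_le hRL).trans (Dvd.intro _ (relIndex_mul_index le_normalizer))))
  by_contra hne
  obtain ⟨β, hβ, hβ1⟩ := exists_hom_of_odd L hLi fun ht => hne (show (⟨h, hh⟩ : normalizer _) ∈ L from ht ▸ mem_top _)
  obtain ⟨γ, h1, h2, h3⟩ := exists_moved hM R hD β (fun x hx => hβ x (hRL hx)) hβ1
  obtain ⟨σ, hσ⟩ := exists_sig
  refine h3 σ hσ fun z => ?_
  obtain ⟨g, rfl⟩ := hf z
  refine hF _ (oddIrr_comp hf h1) ((inB0_iff_one P hM (oddIrr_comp hf h1)).2 fun y hy _ => ?_) σ hσ g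
  have h4 : f y ∈ centralizer ((R : Subgroup H) : Set H) := by
    rintro _ ⟨x, hx, rfl⟩
    rw [← map_mul, ← map_mul, hy x hx]
  have h5 := h2 ⟨f y, centralizer_le_normalizer _ h4⟩ h4
  rwa [hβ _ (mem_map_of_mem f (cent_le_PC _ hy)), Units.val_one] at h5

/-- a `P`-invariant character of odd degree in the principal block is invariant under `P C_G(P)` -/
theorem PC_le_inr (P : Sylow 2 G) (N : Subgroup G) [N.Normal] {θ : N → ℂ} (hθ : OddIrr θ) (hb : InB0 θ)
    (hP : (P : Subgroup G) ≤ H627.BR.Inr N θ) : PC (P : Subgroup G) ≤ H627.BR.Inr N θ := by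
  have := fact2
  obtain ⟨M, hM⟩ := Cfsg.Agent.Blocks.ExistsModular.exists_isPModular Nat.prime_two
  rintro _ ⟨u, hu, c, hc, rfl⟩
  refine mul_mem (hP hu) ?_
  obtain ⟨v, hv, y, hy, ho, rfl⟩ := exists_decomp_norm P (centralizer_le_normalizer _ hc)
  refine mul_mem (hP hv) ?_
  obtain ⟨Q, hQ⟩ := S0542.result 2 N (Normal.isSubnormal inferInstance) P
  refine H627.BR.conj_fixed hM N ((P : Subgroup G) ⊓ N) (P.isPGroup'.to_le inf_le_left) inf_le_right ?_ ⟨θ, hθ.1⟩
    (hb M hM hθ.1) hθ.2 y (fun x hx => zpowers_le.2 hc hy x hx.1) (odd_iff'.1 ho)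
  rw [inf_relIndex_right, relIndex, ← hQ]
  exact Q.not_dvd_index

/-- the nonabelian case -/
theorem cent_nab (hB : AllBox.{u}) (hF : FG G) (P : Sylow 2 G) (N : Subgroup G) [hN : N.Normal]
    (hmin : ∀ K : Subgroup G, K.Normal → K ≤ N → K = ⊥ ∨ K = N) (hna : ¬ ∀ x ∈ N, ∀ y ∈ N, Commute x y)
    (hA : ∀ h ∈ normalizer ((P : Subgroup G) : Set G), ∃ l ∈ PC (P : Subgroup G), ∃ n ∈ N, h = l * n)
    {n : G} (hn : n ∈ N) (hnP : n ∈ normalizer ((P : Subgroup G) : Set G)) (ho : Odd (orderOf n)) :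
    n ∈ centralizer ((P : Subgroup G) : Set G) := by
  have := fact2
  have := Fintype.ofFinite G
  have := Fintype.ofFinite N
  obtain ⟨M, hM⟩ := Cfsg.Agent.Blocks.ExistsModular.exists_isPModular Nat.prime_two
  obtain ⟨m, T, e, -, h⟩ := exists_sys N hmin hna
  choose Q hQ using fun i => S0542.result 2 (T i) (h.subnormal i) P
  refine cent_of_dd h P Q hQ (fun i => (box_factor hB h i (Q i) _ (frame_RR P (T i) (hQ i))).2 ?_) hn hnP ho
  by_contra hnf
  obtain ⟨θ, hθ, hb, hinv, σ, hσ, hmv⟩ := moved_of_not_ff h P hnf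
  obtain ⟨χ, hχ, hχo, h0⟩ := S4583.result N 2 M hM P ⟨θ, hθ.1⟩ (hb M hM hθ.1) hθ.2
    (H893.Sd.exists_ext N P (perf_of_min N hmin hna) ⟨θ, hθ.1⟩ hθ.2 hinv)
  have h1 : classInner (fun n : N => (χ : G → ℂ) n) θ ≠ 0 := by convert h0
  have hf : Fix σ (χ : G → ℂ) := hF _ ⟨χ.2, hχo⟩ (H740.K4.inB0_of_mem hM hχ) σ hσ
  have h2 : classInner (fun n : N => (χ : G → ℂ) n) (fun n => σ (θ n)) ≠ 0 := by
    have h3 := GaloisIrr.classInner_map σ (χ := fun n : N => (χ : G → ℂ) n) (isIrr_isCharacter hθ.1)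
    simp only [hf _] at h3
    rw [h3]
    exact (map_ne_zero σ).2 h1
  obtain ⟨g, hg⟩ := Clifford.exists_conj_of_constituents N χ.2 hθ.1 (GaloisIrr.isIrr_map σ hθ.1) h1 h2
  have hg' : ∀ n : N, σ (θ n) = θ (MulAut.conjNormal g n) := congrFun hg
  obtain ⟨i, hi, hig⟩ := exists_mul_norm P (I := H627.BR.Inr N θ) hinv (g := g) (by
    intro x hx n
    rw [map_mul, map_mul, MulAut.mul_apply, MulAut.mul_apply, ← hg', hinv x hx, hg', ← MulAut.mul_apply, ← map_mul,
      mul_inv_cancel, map_one, MulAut.one_apply])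
  obtain ⟨l, hl, k, hk, hlk⟩ := hA _ hig
  have h3 : g ∈ H627.BR.Inr N θ := by
    rw [← mul_mem_cancel_left hi, hlk]
    exact mul_mem (PC_le_inr P N hθ hb hinv hl) (H627.BR.le_inr (⟨θ, hθ.1⟩ : IrrCharacter N) hk)
  exact hmv fun n => (hg' n).trans (h3 n)

end char

theorem dg_of_fg_aux (hB : AllBox.{u}) (n : ℕ) :
    ∀ (G : Type u) [Group G] [Finite G], Nat.card G = n → ∀ P : Sylow 2 G, FG G → DG P := by
  induction n using Nat.strong_induction_on with
  | _ n ih =>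
  intro G _ _ hn P hF
  have := fact2
  rcases subsingleton_or_nontrivial G with hG | hG
  · exact fun y _ _ x _ => Subsingleton.elim _ _
  obtain ⟨N, hN, hN0, hmin⟩ := H386.Factor.exists_min_normal (G := G)
  have hs := QuotientGroup.mk'_surjective N
  have hD := ih _ (hn ▸ Lib.SolvableNormalP.card_quotient_lt hN0) (G ⧸ N) rfl (P.mapSurjective hs) (hF.quot _ hs)
  have hA : ∀ h ∈ normalizer ((P : Subgroup G) : Set G), ∃ l ∈ PC (P : Subgroup G), ∃ n ∈ N, h = l * n := by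
    intro h hh
    obtain ⟨l, hl, h1⟩ := mem_map_PC hF P _ hs hD (le_normalizer_map _ (mem_map_of_mem _ hh))
    exact ⟨l, hl, l⁻¹ * h, QuotientGroup.eq.1 h1, by group⟩
  have hC : ∀ n ∈ N, n ∈ normalizer ((P : Subgroup G) : Set G) → Odd (orderOf n) →
      n ∈ centralizer ((P : Subgroup G) : Set G) := by
    intro n hn hnP ho
    by_cases hc : ∀ x ∈ N, ∀ y ∈ N, Commute x y
    · exact cent_comm P.isPGroup' N hc hn hnP ho
    · exact cent_nab hB hF P N hmin hc hA hn hnP ho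
  refine (dg_iff P).2 fun h hh => ?_
  obtain ⟨l, hl, k, hk, rfl⟩ := hA h hh
  have h1 : k ∈ normalizer ((P : Subgroup G) : Set G) := (mul_mem_cancel_left (PC_le _ hl)).1 hh
  obtain ⟨u, hu, y, hy, ho, rfl⟩ := exists_decomp_norm P h1
  exact mul_mem hl ⟨u, hu, y, hC y (zpowers_le.2 hk hy) (zpowers_le.2 h1 hy) ho, rfl⟩

/-- **the direction `⇐`** -/
theorem dg_of_fg (hB : AllBox.{u}) {G : Type u} [Group G] [Finite G] (P : Sylow 2 G) (hF : FG G) : DG P :=
  dg_of_fg_aux hB _ G rfl P hF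

end Cfsg.Agent.GAL
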