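import Cfsg.Agent.GAL.Tools
import Cfsg.Agent.H803.S74.Sys
import Cfsg.Agent.H713.Reduce
import Cfsg.Agent.H627.BR.Grp
import Cfsg.Agent.S0542

/-!
# The factors of a nonabelian minimal normal subgroup, group theory (helper20, GAL)

* `RR P T` : the automorphisms of `T` induced by the elements of `P`; `frame_RR`;
* `mem_iff_coord` : an element of `N` is in `P` iff its coordinates are in `P`;
* `dd_of_dg`, `cent_of_dd` : `DG P` and the conditions `DD` of the factors.
-/

set_option autoImplicit false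

namespace Cfsg.Agent.GAL

open Cfsg Subgroup Cfsg.Agent.H803.S74 Cfsg.Agent.H713

universe u

variable {G : Type u} [Group G]

/-- the automorphisms of `T` which are induced by elements of `P` -/
def RR (P T : Subgroup G) : Subgroup (MulAut T) where
  carrier := {r | ∃ g ∈ P, ∀ t : T, ((r t : T) : G) = g * t * g⁻¹}
  one_mem' := ⟨1, one_mem _, fun t => by simp⟩
  mul_mem' := by
    rintro a b ⟨g, hg, ha⟩ ⟨h, hh, hb⟩
    refine ⟨g * h, mul_mem hg hh, fun t => ?_⟩
    rw [MulAut.mul_apply, ha, hb]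
    group
  inv_mem' := by
    rintro a ⟨g, hg, ha⟩
    refine ⟨g⁻¹, inv_mem hg, fun t => ?_⟩
    have h1 := ha (a⁻¹ t)
    rw [MulAut.apply_inv_self] at h1
    rw [h1]
    group

theorem mem_RR {P T : Subgroup G} {r : MulAut T} : r ∈ RR P T ↔ ∃ g ∈ P, ∀ t : T, ((r t : T) : G) = g * t * g⁻¹ :=
  Iff.rfl

theorem exists_RR {P T : Subgroup G} {g : G} (hg : g ∈ P) (h : T = T.map (MulAut.conj g).toMonoidHom) :
    ∃ r ∈ RR P T, ∀ t : T, ((r t : T) : G) = g * t * g⁻¹ :=
  ⟨conjIso g h, ⟨g, hg, fun _ => rfl⟩, fun _ => rfl⟩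

theorem frame_RR (P : Sylow 2 G) (T : Subgroup G) {Q : Sylow 2 T} (hQ : (Q : Subgroup T) = (P : Subgroup G).subgroupOf T) :
    Frame Q (RR (P : Subgroup G) T) := by
  constructor
  · rintro ⟨r, g, hg, hr⟩
    obtain ⟨k, hk⟩ := P.isPGroup' ⟨g, hg⟩
    have h1 : g ^ 2 ^ k = 1 := congrArg Subtype.val hk
    have h2 : ∀ (n : ℕ) (t : T), (((r ^ n) t : T) : G) = g ^ n * t * (g ^ n)⁻¹ := by
      intro n
      induction n with
      | zero => intro t; simp
      | succ n ih =>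
        intro t
        rw [pow_succ', MulAut.mul_apply, hr, ih, pow_succ']
        group
    refine ⟨k, Subtype.ext ?_⟩
    ext t
    show (((r ^ 2 ^ k) t : T) : G) = t
    rw [h2, h1]
    group
  · intro q hq
    rw [hQ] at hq
    exact ⟨q, hq, fun t => rfl⟩

section coord

variable {N : Subgroup G} [N.Normal] {m : ℕ} {T : Fin m → Subgroup G} {e : N ≃* ∀ i, T i}

omit [N.Normal] in
theorem coord_self (h : Sys N T e) {i : Fin m} (t : T i) : e ⟨t, h.le i t.2⟩ = Pi.mulSingle i t := by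
  apply e.symm.injective
  rw [MulEquiv.symm_apply_apply]
  exact Subtype.ext (h.single i t).symm

theorem coord_sig (h : Sys N T e) {σ : G →* Equiv.Perm (Fin m)}
    (hσ : ∀ g i, T (σ g i) = (T i).map (MulAut.conj g).toMonoidHom) (g : G) {i j : Fin m} (hij : σ g i = j) (n : N) :
    ((e (MulAut.conjNormal g n) j : T j) : G) = g * (e n i : G) * g⁻¹ :=
  coord_conj e h.le h.single h.one g i j (hij ▸ hσ g i) n

variable [Finite G]

/-- an element of `N` lies in `P` iff its coordinates do -/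
theorem mem_iff_coord (h : Sys N T e) (P : Sylow 2 G) (n : N) :
    (n : G) ∈ (P : Subgroup G) ↔ ∀ i, ((e n i : T i) : G) ∈ (P : Subgroup G) := by
  have := fact2
  constructor
  · intro hn i
    obtain ⟨Q, hQ⟩ := S0542.result 2 N (Normal.isSubnormal inferInstance) P
    let Q' : ∀ j, Subgroup (T j) := fun j => (Q : Subgroup N).map ((Pi.evalMonoidHom (fun j => T j) j).comp e.toMonoidHom)
    have hQ' : ∀ j, IsPGroup 2 (Q' j) := fun j => Q.isPGroup'.map _
    have h1 : IsPGroup 2 ((pi Set.univ Q').comap e.toMonoidHom) := by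
      rintro ⟨a, ha⟩
      choose k hk using fun j => hQ' j ⟨e a j, ha j trivial⟩
      refine ⟨∑ j, k j, Subtype.ext (e.injective ?_)⟩
      show e (a ^ 2 ^ ∑ j, k j) = e 1
      rw [map_pow, map_one]
      funext j
      have h2 : (e a j) ^ 2 ^ k j = 1 := congrArg Subtype.val (hk j)
      obtain ⟨c, hc⟩ : 2 ^ k j ∣ 2 ^ ∑ j, k j :=
        pow_dvd_pow 2 (Finset.single_le_sum (fun _ _ => Nat.zero_le _) (Finset.mem_univ j))
      rw [Pi.pow_apply, hc, pow_mul, h2, one_pow, Pi.one_apply]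
    have h2 := Q.is_maximal' h1 (fun a ha j _ => ⟨a, ha, rfl⟩)
    have h3 : (⟨e n i, h.le i (e n i).2⟩ : N) ∈ (pi Set.univ Q').comap e.toMonoidHom := by
      intro j _
      show e ⟨e n i, h.le i (e n i).2⟩ j ∈ Q' j
      rw [coord_self h]
      by_cases hj : j = i
      · subst hj
        rw [Pi.mulSingle_eq_same]
        exact ⟨n, by rw [SetLike.mem_coe, hQ]; exact hn, rfl⟩
      · rw [Pi.mulSingle_eq_of_ne hj]
        exact one_mem _
    rw [h2, hQ] at h3
    exact h3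
  · intro hn
    have h1 : pi Set.univ (fun i => (P : Subgroup G).subgroupOf (T i)) ≤
        (P : Subgroup G).comap (N.subtype.comp e.symm.toMonoidHom) := by
      rw [pi_le_iff]
      rintro i _ ⟨x, hx, rfl⟩
      show ((e.symm (Pi.mulSingle i x) : N) : G) ∈ (P : Subgroup G)
      rw [h.single]
      exact hx
    have h2 : ((e.symm (e n) : N) : G) ∈ (P : Subgroup G) := h1 (show e n ∈ _ from fun i _ => hn i)
    rwa [e.symm_apply_apply] at h2

omit [N.Normal] [Finite G] in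
/-- representatives for the orbit of a coordinate -/
theorem exists_reps (σ : G →* Equiv.Perm (Fin m)) (P : Subgroup G) (i : Fin m) :
    ∃ t : Fin m → G, t i = 1 ∧ ∀ j, (∃ u ∈ P, σ u i = j) → t j ∈ P ∧ σ (t j) i = j := by
  classical
  have h1 : ∀ j, ∃ t : G, (j = i → t = 1) ∧ ((∃ u ∈ P, σ u i = j) → t ∈ P ∧ σ t i = j) := by
    intro j
    by_cases hj : j = i
    · exact ⟨1, fun _ => rfl, fun _ => ⟨one_mem _, by rw [map_one, hj]; rfl⟩⟩
    · by_cases h2 : ∃ u ∈ P, σ u i = j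
      · obtain ⟨u, hu, hu'⟩ := h2
        exact ⟨u, fun h => absurd h hj, fun _ => ⟨hu, hu'⟩⟩
      · exact ⟨1, fun _ => rfl, fun h => absurd h h2⟩
  choose t ht using h1
  exact ⟨t, (ht i).1 rfl, fun j => (ht j).2⟩

omit [N.Normal] [Finite G] in
theorem orb_iff (σ : G →* Equiv.Perm (Fin m)) {P : Subgroup G} {u : G} (hu : u ∈ P) (i k : Fin m) :
    (∃ v ∈ P, σ v i = σ u k) ↔ ∃ v ∈ P, σ v i = k := by
  constructor
  · rintro ⟨v, hv, h⟩
    refine ⟨u⁻¹ * v, mul_mem (inv_mem hu) hv, ?_⟩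
    rw [map_mul, Equiv.Perm.mul_apply, h, map_inv, Equiv.Perm.coe_inv, Equiv.symm_apply_apply]
  · rintro ⟨v, hv, h⟩
    exact ⟨u * v, mul_mem hu hv, by rw [map_mul, Equiv.Perm.mul_apply, h]⟩

omit [N.Normal] [Finite G] in
theorem stab_of_reps (σ : G →* Equiv.Perm (Fin m)) {u a b : G} {i k : Fin m} (ha : σ a i = σ u k) (hb : σ b i = k) :
    σ (a⁻¹ * u * b) i = i := by
  rw [map_mul, map_mul, Equiv.Perm.mul_apply, Equiv.Perm.mul_apply, hb, ← ha, map_inv, Equiv.Perm.coe_inv,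
    Equiv.symm_apply_apply]

/-- **`D(G)` implies `D(X)` for the factors** -/
theorem dd_of_dg (h : Sys N T e) (P : Sylow 2 G) (hD : DG P) (i : Fin m) {Q : Sylow 2 (T i)}
    (hQ : (Q : Subgroup (T i)) = (P : Subgroup G).subgroupOf (T i)) : DD Q (RR (P : Subgroup G) (T i)) := by
  classical
  intro y ho hy
  obtain ⟨σ, hσ⟩ := h.exists_sigma
  obtain ⟨t, hti, ht⟩ := exists_reps σ (P : Subgroup G) i
  have hmem : ∀ j, (∃ u ∈ (P : Subgroup G), σ u i = j) → t j * y * (t j)⁻¹ ∈ T j := by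
    intro j hj
    have h1 := Sys.mem_sigma hσ (g := t j) y.2
    rwa [(ht j hj).2] at h1
  let w : ∀ j, T j := fun j => if hj : ∃ u ∈ (P : Subgroup G), σ u i = j then ⟨_, hmem j hj⟩ else 1
  have hw1 : ∀ j, (∃ u ∈ (P : Subgroup G), σ u i = j) → ((w j : T j) : G) = t j * y * (t j)⁻¹ := by
    intro j hj
    simp only [w, dif_pos hj]
  have hw2 : ∀ j, ¬ (∃ u ∈ (P : Subgroup G), σ u i = j) → w j = 1 := by
    intro j hj
    simp only [w, dif_neg hj]
  let z : N := e.symm w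
  have hz : e z = w := e.apply_symm_apply w
  have h1 : ∀ u ∈ (P : Subgroup G), (z : G)⁻¹ * (u * z * u⁻¹) ∈ (P : Subgroup G) := by
    intro u hu
    refine (mem_iff_coord h P (z⁻¹ * MulAut.conjNormal u z)).2 fun j => ?_
    obtain ⟨k, rfl⟩ := (σ u).surjective j
    rw [map_mul, map_inv, Pi.mul_apply, Pi.inv_apply, coe_mul, coe_inv, coord_sig h hσ u rfl, hz]
    by_cases hk : ∃ v ∈ (P : Subgroup G), σ v i = k
    · have hj := (orb_iff σ hu i k).2 hk
      rw [hw1 _ hk, hw1 _ hj]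
      have hs : (t (σ u k))⁻¹ * u * t k ∈ (P : Subgroup G) := mul_mem (mul_mem (inv_mem (ht _ hj).1) hu) (ht _ hk).1
      have h2 := hσ ((t (σ u k))⁻¹ * u * t k) i
      rw [stab_of_reps σ (ht _ hj).2 (ht _ hk).2] at h2
      obtain ⟨r, hr, hr'⟩ := exists_RR hs h2
      have h3 := hy r hr
      rw [hQ, mem_subgroupOf, coe_mul, coe_inv, hr'] at h3
      have h4 := mul_mem (mul_mem (ht _ hj).1 h3) (inv_mem (ht _ hj).1)
      convert h4 using 1
      group
    · rw [hw2 _ hk, hw2 _ (fun hj => hk ((orb_iff σ hu i k).1 hj))]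
      simp
  have h2 : (z : G)⁻¹ ∈ normalizer ((P : Subgroup G) : Set G) := by
    refine mem_normalizer_fintype fun u hu => ?_
    have h3 := (P : Subgroup G).mul_mem (h1 u hu) hu
    rw [show (z : G)⁻¹ * (u * z * u⁻¹) * u = (z : G)⁻¹ * u * (z : G)⁻¹⁻¹ by group] at h3
    exact h3
  have h3 : Odd (orderOf (z : G)) := by
    refine ho.of_dvd_nat ?_
    rw [orderOf_coe, ← MulEquiv.orderOf_eq e, hz]
    apply orderOf_dvd_of_pow_eq_one
    funext j
    rw [Pi.pow_apply, Pi.one_apply]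
    by_cases hj : ∃ u ∈ (P : Subgroup G), σ u i = j
    · apply Subtype.ext
      rw [coe_pow, hw1 _ hj, conj_pow, ← coe_pow, pow_orderOf_eq_one]
      simp
    · rw [hw2 _ hj, one_pow]
  have h4 := hD z (by simpa using inv_mem h2) h3
  rintro r ⟨g, hg, hr⟩
  have h5 : σ g i = i := (h.sigma_eq_iff hσ).2 fun x hx => by
    rw [← hr ⟨x, hx⟩]
    exact (r ⟨x, hx⟩).2
  have h6 : MulAut.conjNormal g z = z := by
    apply Subtype.ext
    rw [MulAut.conjNormal_apply, mem_centralizer_iff.1 h4 g hg, mul_inv_cancel_right]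
  have h7 := coord_sig h hσ g h5 z
  rw [h6, hz, hw1 i ⟨1, one_mem _, by rw [map_one]; rfl⟩, hti] at h7
  apply Subtype.ext
  rw [hr]
  simpa using h7.symm

/-- **the conditions `D(X)` of the factors give `D(N P)`** -/
theorem cent_of_dd (h : Sys N T e) (P : Sylow 2 G) (Q : ∀ i, Sylow 2 (T i))
    (hQ : ∀ i, (Q i : Subgroup (T i)) = (P : Subgroup G).subgroupOf (T i))
    (hD : ∀ i, DD (Q i) (RR (P : Subgroup G) (T i))) {n : G} (hn : n ∈ N)
    (hnP : n ∈ normalizer ((P : Subgroup G) : Set G)) (ho : Odd (orderOf n)) :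
    n ∈ centralizer ((P : Subgroup G) : Set G) := by
  have := fact2
  obtain ⟨σ, hσ⟩ := h.exists_sigma
  have h1 : ∀ i, ∀ r ∈ RR (P : Subgroup G) (T i), r (e ⟨n, hn⟩ i) = e ⟨n, hn⟩ i := by
    intro i
    refine hD i _ ?_ ?_
    · refine ho.of_dvd_nat ?_
      rw [← orderOf_mk n hn]
      exact orderOf_map_dvd ((Pi.evalMonoidHom (fun j => T j) i).comp e.toMonoidHom) ⟨n, hn⟩
    · rintro r ⟨g, hg, hr⟩
      have h5 : σ g i = i := (h.sigma_eq_iff hσ).2 fun x hx => by
        rw [← hr ⟨x, hx⟩]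
        exact (r ⟨x, hx⟩).2
      have h2 : (((⟨n, hn⟩ : N)⁻¹ * MulAut.conjNormal g ⟨n, hn⟩ : N) : G) ∈ (P : Subgroup G) := by
        have h3 := (mem_normalizer_iff.1 (inv_mem hnP) g).1 hg
        have h4 := mul_mem h3 (inv_mem hg)
        convert h4 using 1
        simp [mul_assoc]
      have h3 := (mem_iff_coord h P _).1 h2 i
      rw [map_mul, map_inv, Pi.mul_apply, Pi.inv_apply, coe_mul, coe_inv, coord_sig h hσ g h5] at h3
      rw [hQ, mem_subgroupOf, coe_mul, coe_inv, hr]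
      exact h3
  have h2 : ∀ q ∈ (P : Subgroup G) ⊓ N, n * q = q * n := by
    rintro q ⟨hqP, hqN⟩
    have h3 : MulAut.conjNormal q (⟨n, hn⟩ : N) = ⟨n, hn⟩ := by
      apply e.injective
      funext i
      have h4 := h.sigma_of_mem hσ hqN i
      have h5 := hσ q i
      rw [h4] at h5
      obtain ⟨r, hr, hr'⟩ := exists_RR hqP h5
      apply Subtype.ext
      rw [coord_sig h hσ q h4, ← hr', h1 i r hr]
    have h4 : q * n * q⁻¹ = n := congrArg Subtype.val h3
    exact (mul_inv_eq_iff_eq_mul.1 h4).symm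
  have h3 := H627.BR.comm_of_cent (P := (P : Subgroup G)) (P.isPGroup'.to_inf_left (K := N)) h2 (fun x hx =>
    mem_inf.2 ⟨(P : Subgroup G).mul_mem ((mem_normalizer_iff.1 hnP x).1 hx) ((P : Subgroup G).inv_mem hx), by
      have h4 := N.mul_mem hn ((inferInstance : N.Normal).conj_mem _ (N.inv_mem hn) x)
      rwa [show n * (x * n⁻¹ * x⁻¹) = n * x * n⁻¹ * x⁻¹ by group] at h4⟩) (odd_iff'.1 ho)
  rw [mem_centralizer_iff]
  intro x hx
  exact (h3 x hx).symm

end coord

end Cfsg.Agent.GAL
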