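import Cfsg.Agent.GAL.Tools
import Cfsg.Agent.CharactersDeep.ExtGroup

/-!
# The extension lemma (helper20, GAL)

`N` a perfect normal subgroup, `θ` an invariant irreducible character of `N` of odd degree which is fixed by `σ`:
then `θ` has an extension which is fixed by `σ`.
-/

set_option autoImplicit false

namespace Cfsg.Agent.GAL

open Cfsg Cfsg.Agent.H601.K4 Cfsg.Agent.TAB.Use Cfsg.Agent.ODD.Red Cfsg.Agent.Characters
open Cfsg.Agent.Characters.Core Cfsg.Agent.CharactersDeep Cfsg.Agent.CharactersDeep.ExtGroup Module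

universe u

section tw

variable (σ : ℂ ≃+* ℂ) {d : ℕ}

/-- the entrywise action of a field automorphism -/
noncomputable def tw0 : End ℂ (Fin d → ℂ) →* End ℂ (Fin d → ℂ) where
  toFun A := Matrix.toLin' ((LinearMap.toMatrix' A).map σ)
  map_one' := by
    rw [LinearMap.toMatrix'_one, Matrix.map_one σ (map_zero σ) (map_one σ), Matrix.toLin'_one]
    rfl
  map_mul' g h := by
    rw [LinearMap.toMatrix'_mul, Matrix.map_mul, Matrix.toLin'_mul]
    rfl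

theorem tw0_apply (A : End ℂ (Fin d → ℂ)) : tw0 σ A = Matrix.toLin' ((LinearMap.toMatrix' A).map σ) := rfl

theorem tw0_smul (c : ℂ) (A : End ℂ (Fin d → ℂ)) : tw0 σ (c • A) = σ c • tw0 σ A := by
  have h : (c • LinearMap.toMatrix' A).map σ = σ c • (LinearMap.toMatrix' A).map σ := by
    ext i j
    simp
  rw [tw0_apply, tw0_apply, map_smul, h, map_smul]

theorem tw0_det (A : End ℂ (Fin d → ℂ)) : LinearMap.det (tw0 σ A) = σ (LinearMap.det A) := by
  rw [tw0_apply, LinearMap.det_toLin', ← LinearMap.det_toMatrix' A]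
  exact ((σ : ℂ →+* ℂ).map_det _).symm

theorem tw0_trace (A : End ℂ (Fin d → ℂ)) : LinearMap.trace ℂ _ (tw0 σ A) = σ (LinearMap.trace ℂ _ A) := by
  rw [tw0_apply, Matrix.trace_toLin'_eq]
  conv_rhs => rw [← Matrix.toLin'_toMatrix' A, Matrix.trace_toLin'_eq]
  rw [Matrix.trace, Matrix.trace, map_sum]
  rfl

end tw

variable {G : Type u} [Group G] [Finite G]

/-- **the extension lemma** -/
theorem exists_fixed_ext (N : Subgroup G) [hN : N.Normal] (hperf : commutator N = ⊤) {θ : N → ℂ} (hθ : OddIrr θ)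
    (hinv : ∀ (g : G) (n : N), θ (MulAut.conjNormal g n) = θ n) {σ : ℂ ≃+* ℂ} (hσ : Sig σ) (hfix : Fix σ θ) :
    ∃ χ : G → ℂ, IsIrrCharacter G χ ∧ (∀ n : N, χ n = θ n) ∧ Fix σ χ := by
  obtain ⟨⟨d, ρ, hρ, rfl⟩, hodd⟩ := hθ
  have hd : Odd d := by
    rw [odd_iff']
    have h1 : charDegree ρ.character = d := by
      apply Cfsg.Agent.Blocks.Basic.charDegree_of_eq
      rw [Representation.char_one]
      simp
    rwa [h1] at hodd
  have hnt : Nontrivial (Fin d → ℂ) := nontrivial_of_isIrreducible ρ hρ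
  -- the determinant is trivial
  have hdet : ∀ n, LinearMap.det (ρ n) = 1 := by
    intro n
    let δ : N →* ℂ := (LinearMap.det : End ℂ (Fin d → ℂ) →* ℂ).comp ρ
    have h1 : commutator N ≤ δ.toHomUnits.ker := Abelianization.commutator_subset_ker _
    rw [hperf] at h1
    have h2 : δ.toHomUnits n = 1 := h1 (Subgroup.mem_top n)
    exact congrArg Units.val h2
  -- the equivalence with the twisted representation
  obtain ⟨e⟩ := IrrEquiv.exists_equiv_of_character_eq ρ (GaloisBasic.twist σ ρ) hρ (by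
    funext n
    rw [GaloisBasic.twist_character, hfix n])
  let B : (End ℂ (Fin d → ℂ))ˣ := ⟨e.toLinearEquiv.toLinearMap, e.toLinearEquiv.symm.toLinearMap, by
    refine LinearMap.ext fun v => ?_
    exact e.toLinearEquiv.apply_symm_apply v, by
    refine LinearMap.ext fun v => ?_
    exact e.toLinearEquiv.symm_apply_apply v⟩
  have hB : ∀ n, (B : End ℂ (Fin d → ℂ)) * ρ n = tw0 σ (ρ n) * B := by
    intro n
    refine LinearMap.ext fun v => ?_
    exact Representation.IntertwiningMap.isIntertwining _ _ e.toIntertwiningMap n v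
  let Φ : (End ℂ (Fin d → ℂ))ˣ →* (End ℂ (Fin d → ℂ))ˣ := (MulAut.conj B⁻¹).toMonoidHom.comp (Units.map (tw0 σ))
  have hΦ : ∀ A : (End ℂ (Fin d → ℂ))ˣ, ((Φ A : (End ℂ (Fin d → ℂ))ˣ) : End ℂ (Fin d → ℂ)) =
      ((B⁻¹ : (End ℂ (Fin d → ℂ))ˣ) : End ℂ (Fin d → ℂ)) * tw0 σ (A : End ℂ (Fin d → ℂ)) * B := by
    intro A
    simp [Φ]
  have hΦρ : ∀ n, ((B⁻¹ : (End ℂ (Fin d → ℂ))ˣ) : End ℂ (Fin d → ℂ)) * tw0 σ (ρ n) * B = ρ n := by
    intro n
    rw [mul_assoc, ← hB, ← mul_assoc, Units.inv_mul, one_mul]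
  have hΦmem : ∀ g A, (g, A) ∈ extGroup N ρ → (g, Φ A) ∈ extGroup N ρ := by
    intro g A h x
    have h1 := congrArg (tw0 σ) (h x)
    rw [map_mul, map_mul] at h1
    show ((Φ A : (End ℂ (Fin d → ℂ))ˣ) : End ℂ (Fin d → ℂ)) * ρ x =
      ρ (MulAut.conjNormal g x) * ((Φ A : (End ℂ (Fin d → ℂ))ˣ) : End ℂ (Fin d → ℂ))
    rw [hΦ, ← hΦρ x, ← hΦρ (MulAut.conjNormal g x)]
    simp only [mul_assoc, Units.mul_inv_cancel_left]
    rw [← mul_assoc (tw0 σ (A : End ℂ (Fin d → ℂ))), ← mul_assoc (tw0 σ (ρ _))]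
    exact congrArg (fun X => ((B⁻¹ : (End ℂ (Fin d → ℂ))ˣ) : End ℂ (Fin d → ℂ)) * (X * B)) h1
  have hΦdet : ∀ A : (End ℂ (Fin d → ℂ))ˣ, LinearMap.det ((Φ A : (End ℂ (Fin d → ℂ))ˣ) : End ℂ (Fin d → ℂ)) =
      σ (LinearMap.det (A : End ℂ (Fin d → ℂ))) := by
    intro A
    rw [hΦ, map_mul, map_mul, mul_right_comm, ← map_mul, Units.inv_mul, map_one, one_mul, tw0_det]
  -- scalars
  let sc : ℂˣ →* (End ℂ (Fin d → ℂ))ˣ := Units.map (algebraMap ℂ (End ℂ (Fin d → ℂ))).toMonoidHom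
  have hsc : ∀ (c : ℂˣ) (A : End ℂ (Fin d → ℂ)), ((sc c : (End ℂ (Fin d → ℂ))ˣ) : End ℂ (Fin d → ℂ)) * A =
      (c : ℂ) • A := by
    intro c A
    show algebraMap ℂ (End ℂ (Fin d → ℂ)) (c : ℂ) * A = _
    rw [Algebra.algebraMap_eq_smul_one, smul_mul_assoc, one_mul]
  have hscmem : ∀ (c : ℂˣ) g A, (g, A) ∈ extGroup N ρ → (g, sc c * A) ∈ extGroup N ρ := by
    intro c g A h x
    show ((sc c * A : (End ℂ (Fin d → ℂ))ˣ) : End ℂ (Fin d → ℂ)) * ρ x =
      ρ (MulAut.conjNormal g x) * ((sc c * A : (End ℂ (Fin d → ℂ))ˣ) : End ℂ (Fin d → ℂ))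
    rw [Units.val_mul, hsc, smul_mul_assoc, mul_smul_comm]
    exact congrArg (fun X => (c : ℂ) • X) (h x)
  have hscdet : ∀ (c : ℂˣ) (A : (End ℂ (Fin d → ℂ))ˣ),
      LinearMap.det ((sc c * A : (End ℂ (Fin d → ℂ))ˣ) : End ℂ (Fin d → ℂ)) =
        (c : ℂ) ^ d * LinearMap.det (A : End ℂ (Fin d → ℂ)) := by
    intro c A
    rw [Units.val_mul, hsc, LinearMap.det_smul]
    simp
  have hscΦ : ∀ (c : ℂˣ) (A : (End ℂ (Fin d → ℂ))ˣ),
      ((Φ (sc c * A) : (End ℂ (Fin d → ℂ))ˣ) : End ℂ (Fin d → ℂ)) =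
        σ c • ((Φ A : (End ℂ (Fin d → ℂ))ˣ) : End ℂ (Fin d → ℂ)) := by
    intro c A
    rw [hΦ, hΦ, Units.val_mul, hsc, tw0_smul, mul_smul_comm, smul_mul_assoc]
  have huniq : ∀ g A A', (g, A) ∈ extGroup N ρ → (g, A') ∈ extGroup N ρ → ∃ c : ℂˣ, A' = sc c * A := by
    intro g A A' h h'
    have h1 := (extGroup N ρ).mul_mem h' ((extGroup N ρ).inv_mem h)
    have h2 : ((g, A') * (g, A)⁻¹ : G × (End ℂ (Fin d → ℂ))ˣ) = (((1 : N) : G), A' * A⁻¹) := by
      ext <;> simp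
    rw [h2] at h1
    obtain ⟨c, hc⟩ := eq_scal N ρ hρ 1 _ h1
    refine ⟨c, ?_⟩
    rw [← mul_inv_eq_iff_eq_mul, hc]
    unfold scal
    rw [map_one, mul_one]
  -- the good pairs
  let Gd : G → (End ℂ (Fin d → ℂ))ˣ → Prop := fun g A =>
    (g, A) ∈ extGroup N ρ ∧ LinearMap.det (A : End ℂ (Fin d → ℂ)) = 1 ∧ Φ A = A
  have hex : ∀ g, ∃ A, Gd g A := by
    intro g
    obtain ⟨A, hA⟩ := exists_mem N ρ hρ hinv g
    have hA0 : LinearMap.det (A : End ℂ (Fin d → ℂ)) ≠ 0 :=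
      ((Units.map (LinearMap.det : End ℂ (Fin d → ℂ) →* ℂ)) A).ne_zero
    obtain ⟨r, hr⟩ := IsAlgClosed.exists_pow_nat_eq (LinearMap.det (A : End ℂ (Fin d → ℂ)))⁻¹ hd.pos
    have hr0 : r ≠ 0 := by
      rintro rfl
      rw [zero_pow hd.pos.ne'] at hr
      exact inv_ne_zero hA0 hr.symm
    let A₁ := sc (Units.mk0 r hr0) * A
    have h1 : (g, A₁) ∈ extGroup N ρ := hscmem _ g A hA
    have h2 : LinearMap.det (A₁ : End ℂ (Fin d → ℂ)) = 1 := by
      rw [hscdet, Units.val_mk0, hr, inv_mul_cancel₀ hA0]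
    obtain ⟨z, hz⟩ := huniq g A₁ (Φ A₁) h1 (hΦmem g A₁ h1)
    have h3 : (z : ℂ) ^ d = 1 := by
      have h4 := hΦdet A₁
      rwa [hz, hscdet, h2, mul_one, map_one] at h4
    have h4 : ((z⁻¹ : ℂˣ) : ℂ) ^ d = 1 := by rw [Units.val_inv_eq_inv_val, inv_pow, h3, inv_one]
    refine ⟨sc z⁻¹ * A₁, hscmem _ g A₁ h1, by rw [hscdet, h2, h4, mul_one], Units.ext ?_⟩
    rw [hscΦ, hz, Units.val_mul (sc z), Units.val_mul (sc z⁻¹), hsc z, hsc z⁻¹, hσ.2 d _ hd h4, smul_smul]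
    congr 1
    rw [Units.val_inv_eq_inv_val]
    field_simp
  have hun : ∀ g A A', Gd g A → Gd g A' → A = A' := by
    intro g A A' h h'
    obtain ⟨c, hc⟩ := huniq g A A' h.1 h'.1
    have h1 : (c : ℂ) ^ d = 1 := by
      have h2 := h'.2.1
      rwa [hc, hscdet, h.2.1, mul_one] at h2
    have h2 := congrArg Units.val h'.2.2
    rw [hc, hscΦ, h.2.2, Units.val_mul, hsc, hσ.2 d _ hd h1] at h2
    have h3 : (c : ℂ) ^ 2 = c := smul_left_injective ℂ A.ne_zero h2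
    have h4 : c = 1 := by
      apply Units.ext
      rw [pow_two] at h3
      exact mul_left_cancel₀ c.ne_zero (h3.trans (mul_one _).symm)
    rw [hc, h4, map_one, one_mul]
  choose A hA using hex
  have hmul : ∀ g h, A (g * h) = A g * A h := by
    intro g h
    refine hun (g * h) _ _ (hA _) ⟨(extGroup N ρ).mul_mem (hA g).1 (hA h).1, ?_, ?_⟩
    · rw [Units.val_mul, map_mul, (hA g).2.1, (hA h).2.1, mul_one]
    · rw [map_mul, (hA g).2.2, (hA h).2.2]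
  let A' : G →* (End ℂ (Fin d → ℂ))ˣ := MonoidHom.mk' A hmul
  let τ : Representation ℂ G (Fin d → ℂ) := (Units.coeHom _).comp A'
  have hτ : ∀ g, τ g = A g := fun _ => rfl
  have hτρ : ∀ n : N, τ n = ρ n := by
    intro n
    have h1 : ((scal N ρ n 1 : (End ℂ (Fin d → ℂ))ˣ) : End ℂ (Fin d → ℂ)) = ρ n := by
      rw [scal_val, Units.val_one, one_smul]
    rw [hτ, hun n _ _ (hA n) ⟨scal_mem N ρ n 1, by rw [h1, hdet], Units.ext (by rw [hΦ, h1, hΦρ])⟩, h1]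
  have hcomp : (MonoidHom.comp τ N.subtype : Representation ℂ N (Fin d → ℂ)) = ρ := by
    ext n : 1
    exact hτρ n
  refine ⟨τ.character, ⟨d, τ, ?_, rfl⟩, fun n => ?_, fun g => ?_⟩
  · apply IrrEquiv.isIrreducible_of_comp τ N.subtype
    rw [hcomp]
    exact hρ
  · change LinearMap.trace ℂ _ (τ n) = LinearMap.trace ℂ _ (ρ n)
    rw [hτρ]
  · change σ (LinearMap.trace ℂ _ (τ g)) = LinearMap.trace ℂ _ (τ g)
    rw [hτ, ← tw0_trace]
    conv_rhs => rw [← (hA g).2.2, hΦ, LinearMap.trace_mul_comm, ← mul_assoc, Units.mul_inv, one_mul]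

end Cfsg.Agent.GAL
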