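import Cfsg.Agent.GAL.Red.Prod
import Cfsg.Agent.GAL.Red.Ext
import Cfsg.Agent.ODD.Red.Cl
import Cfsg.Agent.ODD.Red.Tri
import Cfsg.Agent.S0933
import Cfsg.Agent.S0936
import Cfsg.Agent.H611.CoverPrincipal
import Cfsg.Agent.H386.Factor
import Cfsg.Agent.Characters.CCBasic
import Cfsg.Agent.CharactersDeep.CosetAverage
import Cfsg.Agent.Lib.SolvableNormalP
import Cfsg.Agent.H113.NormTwoChar

/-!
# `DG P → FG G` (helper20, GAL)

The induction over a minimal normal subgroup: Clifford correspondence, the extension lemma, Gallagher's theorem.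
-/

set_option autoImplicit false

namespace Cfsg.Agent.GAL

open Cfsg Cfsg.Agent.H601.K4 Cfsg.Agent.TAB.Use Cfsg.Agent.ODD.Red Cfsg.Agent.Characters
open Cfsg.Agent.Characters.Core Cfsg.Agent.Blocks.Local Cfsg.Agent.Blocks.Basic Subgroup
open Cfsg.Agent.H803.S74 Cfsg.Agent.OddOrderCharacters.PF9

universe u v

section grp

variable {G : Type u} [Group G] [Finite G]

/-- `DG` passes to the subgroups of odd index -/
theorem DG.sub {P : Sylow 2 G} (hD : DG P) {T : Subgroup G} (h : (P : Subgroup G) ≤ T) : DG (P.subtype h) := by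
  intro y hy ho
  have h1 : (y : G) ∈ normalizer ((P : Subgroup G) : Set G) := by
    refine mem_normalizer_fintype fun x hx => ?_
    exact (mem_normalizer_iff.1 hy ⟨x, h hx⟩).1 hx
  have h2 := hD y h1 (by rwa [orderOf_coe])
  rw [mem_centralizer_iff] at h2 ⊢
  intro x hx
  exact Subtype.ext (h2 x hx)

/-- the normalizer of the image of `P` -/
theorem exists_lift_norm (P : Sylow 2 G) {H : Type v} [Group H] (f : G →* H) (hf : Function.Surjective f) {h : H}
    (hh : h ∈ normalizer (((P : Subgroup G).map f : Subgroup H) : Set H)) :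
    ∃ g ∈ normalizer ((P : Subgroup G) : Set G), f g = h := by
  have := fact2
  obtain ⟨g, rfl⟩ := hf h
  obtain ⟨k, hk, hg⟩ := H627.BR.frat P f.ker (g := g) (by
    intro x hx
    have h1 := (mem_normalizer_iff.1 hh (f x)).1 (mem_map_of_mem f hx)
    rw [← map_inv, ← map_mul, ← map_mul] at h1
    rw [← comap_map_eq]
    exact h1)
  exact ⟨k⁻¹ * g, mem_normalizer_fintype hg, by
    rw [map_mul, map_inv, MonoidHom.mem_ker.1 hk, inv_one, one_mul]⟩

/-- the elements of odd order which normalize the image of `P` -/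
theorem exists_lift_odd (P : Sylow 2 G) {H : Type v} [Group H] (f : G →* H) (hf : Function.Surjective f) {h : H}
    (hh : h ∈ normalizer (((P : Subgroup G).map f : Subgroup H) : Set H)) (ho : Odd (orderOf h)) :
    ∃ y ∈ normalizer ((P : Subgroup G) : Set G), Odd (orderOf y) ∧ f y = h := by
  have := fact2
  obtain ⟨g, h1, rfl⟩ := exists_lift_norm P f hf hh
  obtain ⟨u, hu, y, hy, hyo, huy⟩ := exists_decomp_norm P h1
  refine ⟨y, zpowers_le.2 h1 hy, hyo, ?_⟩
  have h3 : f y ∈ zpowers (f g) := by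
    obtain ⟨j, rfl⟩ := hy
    rw [map_zpow]
    exact zpow_mem (mem_zpowers _) j
  have h4 : f u = f g * (f y)⁻¹ := by rw [huy, map_mul, mul_inv_cancel_right]
  have h5 : f u ∈ zpowers (f g) := h4 ▸ mul_mem (mem_zpowers _) (inv_mem h3)
  have h6 : f u = 1 := eq_one_of_odd_of_mem (P.isPGroup'.map f) (mem_map_of_mem f hu)
    (Odd.of_dvd_nat ho (orderOf_dvd_of_mem_zpowers h5))
  rw [huy, map_mul, h6, one_mul]

/-- `DG` passes to quotients -/
theorem DG.quot {P : Sylow 2 G} (hD : DG P) {H : Type u} [Group H] [Finite H] (f : G →* H)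
    (hf : Function.Surjective f) : DG (haveI := fact2; P.mapSurjective hf) := by
  intro h hh ho
  obtain ⟨y, hy, hyo, rfl⟩ := exists_lift_odd P f hf hh ho
  have h1 := hD y hy hyo
  rw [mem_centralizer_iff] at h1 ⊢
  rintro _ ⟨x, hx, rfl⟩
  rw [← map_mul, ← map_mul, h1 x hx]

omit [Finite G] in
/-- a nonabelian minimal normal subgroup is perfect -/
theorem perf_of_min (N : Subgroup G) [N.Normal] (hmin : ∀ K : Subgroup G, K.Normal → K ≤ N → K = ⊥ ∨ K = N)
    (hna : ¬ ∀ x ∈ N, ∀ y ∈ N, Commute x y) : commutator N = ⊤ := by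
  have hmap : (commutator N).map N.subtype = ⁅N, N⁆ := by
    rw [commutator_def, Subgroup.map_commutator, ← MonoidHom.range_eq_map, Subgroup.range_subtype]
  rcases hmin ⁅N, N⁆ inferInstance (commutator_le_left N N) with h | h
  · exact absurd (fun x hx y hy => (commutator_eq_bot_iff_le_centralizer.1 h hy x hx)) hna
  · apply Subgroup.map_injective N.subtype_injective
    rw [hmap, h, ← MonoidHom.range_eq_map, Subgroup.range_subtype]

end grp

section char

variable {G : Type u} [Group G] [Finite G]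

/-- Brauer's third main theorem for an induced character -/
theorem inB0_of_ind [Fintype G] (T : Subgroup G) {ψ : T → ℂ} (hψ : IsIrrCharacter T ψ)
    (hχ : IsIrrCharacter G (indFun T ψ)) (hb : InB0 (indFun T ψ)) : InB0 ψ := by
  have := fact2
  intro M hM h
  have := isPrime_of_isPModular hM
  have h1 := S0933.result 2 M hM T ⟨ψ, hψ⟩ hχ
  have h2 : principalBlock M G = blockOf M (indFun T ψ) := blockOf_eq_of_sameBlock (hb M hM hχ)
  have h3 := (S0936.result 2 M hM T _ ⟨_, h1⟩).1 (h2 ▸ h1)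
  rw [← h3]
  exact mem_blockOf_self (⟨ψ, h⟩ : IrrCharacter T)

/-- the Clifford step -/
theorem cliffB (N : Subgroup G) [hN : N.Normal] [Fintype N] {χ : G → ℂ} (hχ : OddIrr χ) (hb : InB0 χ) {θ : N → ℂ}
    (hθ : IsIrrCharacter N θ) (h0 : classInner (fun n : N => χ n) θ ≠ 0) :
    ∃ (T : Subgroup G) (ψ : T → ℂ), (∀ g, g ∈ T ↔ ∀ n : N, θ (MulAut.conjNormal g n) = θ n) ∧
      ¬ 2 ∣ T.index ∧ OddIrr ψ ∧ InB0 ψ ∧ ∀ σ, Fix σ ψ → Fix σ χ := by
  have := Fintype.ofFinite G
  let T := CliffGen.inertia N θ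
  have := Fintype.ofFinite T
  have hT' : ∀ g : G, g ∈ T ↔ ∀ n : N, θ ⟨g * n * g⁻¹, hN.conj_mem (n : G) n.2 g⟩ = θ n := fun g => funext_iff
  have hNT : N ≤ T := by
    intro n hn
    rw [hT']
    intro x
    exact isIrr_isClassFunction hθ x ⟨n, hn⟩
  obtain ⟨ψ, hψ, hind, -⟩ := CharDeep.CliffordCorr.clifford_correspondence N θ hθ T hT' hNT χ hχ.1 h0
  have h1 : Odd T.index ∧ Odd (charDegree ψ) := by
    refine odd_of_mul (odd_iff'.2 hχ.2) ?_
    rw [← apply_one (isIrr_isCharacter hχ.1), ← apply_one (isIrr_isCharacter hψ), ← hind,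
      CharactersDeep.NormalInd.indFun_one]
  refine ⟨T, ψ, hT', odd_iff'.1 h1.1, ⟨hψ, odd_iff'.1 h1.2⟩, inB0_of_ind T hψ (hind ▸ hχ.1) (hind ▸ hb),
    fun σ h g => ?_⟩
  have h2 : (fun t => σ (ψ t)) = ψ := funext h
  rw [← hind, map_indFun, h2]

theorem inB0_under (N : Subgroup G) [N.Normal] [Fintype N] {χ : G → ℂ} (hχ : IsIrrCharacter G χ) (hb : InB0 χ)
    {θ : N → ℂ} (h0 : classInner (fun n : N => χ n) θ ≠ 0) : InB0 θ := by
  have := fact2
  have := Fintype.ofFinite G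
  intro M hM h
  exact H611.CoverPrincipal.mem_principalBlock_of_over 2 hM N ⟨χ, hχ⟩ ⟨θ, h⟩ h0 (hb M hM hχ)

theorem dH_hom (l : G →* ℂˣ) (g : G) : dH (fun x => (l x : ℂ)) g = l g := by
  have h0 : IsCharacter G (fun _ : G => (1 : ℂ)) := isIrr_isCharacter isIrr_one
  have h1 := dH_lin l h0 g
  have h2 : charDegree (fun _ : G => (1 : ℂ)) = 1 := charDegree_of (n := 1) (by simp)
  have h3 := dH_comp (1 : G →* G) h0 g
  simp only [mul_one, h2, pow_one] at h1
  rw [h1, show dH (fun _ : G => (1 : ℂ)) g = 1 from h3.trans (map_one _), mul_one]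

/-- linear characters of the principal block have 2-power order -/
theorem pow_eq_one_of_inB0 (hc : ∀ a b : G, a * b = b * a) {l : G →* ℂˣ} (hb : InB0 (fun x => (l x : ℂ))) {a b : ℕ}
    (ho : Odd b) (h : ∀ g : G, g ^ (2 ^ a * b) = 1) (g : G) : l g ^ 2 ^ a = 1 := by
  have := fact2
  obtain ⟨M, hM⟩ := Cfsg.Agent.Blocks.ExistsModular.exists_isPModular Nat.prime_two
  have h0 : OddIrr (fun x => (l x : ℂ)) :=
    ⟨Linear.isIrrCharacter_hom l, by rw [charDegree_of (n := 1) (by simp)]; decide⟩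
  have h1 : (g ^ 2 ^ a) ^ b = 1 := by rw [← pow_mul, h]
  have h2 := (inB0_iff_one (default : Sylow 2 G) hM h0).1 hb (g ^ 2 ^ a) (fun x _ => hc _ _)
    (Odd.of_dvd_nat ho (orderOf_dvd_of_pow_eq_one h1))
  rw [← map_pow]
  refine Units.ext (H700.PrinCrit.eq_one_of_sub_mem hM (odd_iff'.1 ho) ?_ h2)
  rw [← Units.val_pow_eq_pow_val, ← map_pow, h1, map_one, Units.val_one]

/-- the extension, abelian case -/
theorem exists_ext_comm (N : Subgroup G) (hc : ∀ a b : N, a * b = b * a) {χ : G → ℂ} (hχ : OddIrr χ) {θ : N → ℂ}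
    (hθ : IsIrrCharacter N θ) (hb : InB0 θ) {e : ℕ} (he : ∀ n : N, χ n = e * θ n) {σ : ℂ ≃+* ℂ} (hσ : Sig σ) :
    ∃ η : G → ℂ, IsIrrCharacter G η ∧ (∀ n : N, η n = θ n) ∧ Fix σ η := by
  obtain ⟨l, rfl⟩ := CCBasic.exists_hom_of_comm hc hθ
  obtain ⟨a, b, hb2, hab⟩ := Nat.exists_eq_two_pow_mul_odd (Nat.card_pos (α := G)).ne'
  have hG : ∀ g : G, g ^ (2 ^ a * b) = 1 := fun g => by rw [← hab, pow_card_eq_one']
  have h1 := pow_eq_one_of_inB0 hc hb hb2 (a := a) fun n => Subtype.ext (hG n)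
  have h2 : Odd e := by
    have h3 : χ 1 = e * (l 1 : ℂ) := he 1
    rw [map_one, Units.val_one, mul_one] at h3
    have h4 := odd_iff'.2 hχ.2
    rwa [charDegree_of (n := e) h3] at h4
  have h3 : ∀ n : N, dH χ n = l n ^ e := by
    intro n
    have h4 := dH_comp N.subtype (isIrr_isCharacter hχ.1) n
    have h5 : (fun x : N => χ (N.subtype x)) = fun x => (e : ℂ) * (l x : ℂ) := funext he
    rw [h5, dH_smul (isIrr_isCharacter hθ), dH_hom] at h4
    exact h4.symm
  obtain ⟨j, hj⟩ := Nat.exists_mul_mod_eq_of_coprime (n := e * b) (k := 2 ^ a) 1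
    ((Nat.coprime_two_right.2 (h2.mul hb2)).pow_right a) (by positivity)
  let μ : G →* ℂˣ := (dH χ) ^ (b * j)
  have hμ : ∀ g, μ g = dH χ g ^ (b * j) := fun g => rfl
  refine ⟨fun g => (μ g : ℂ), Linear.isIrrCharacter_hom μ, fun n => ?_, fun g => ?_⟩
  · show (μ n : ℂ) = l n
    rw [hμ, h3, ← pow_mul, ← mul_assoc, pow_eq_pow_mod _ (h1 n), hj.2, ← pow_eq_pow_mod _ (h1 n), pow_one]
  · refine hσ.1 a _ ?_
    show (μ g : ℂ) ^ 2 ^ a = 1
    rw [← Units.val_pow_eq_pow_val, hμ, ← pow_mul, show b * j * 2 ^ a = 2 ^ a * b * j by ring, pow_mul, ← map_pow,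
      hG, map_one, one_pow, Units.val_one]

/-- the boxes of the factors -/
theorem box_factor (hB : AllBox.{u}) {N : Subgroup G} {m : ℕ} {T : Fin m → Subgroup G} {e : N ≃* ∀ i, T i}
    (h : Sys N T e) (i : Fin m) : Box (T i) := by
  refine hB (T i) (h.simple i) fun hc => ?_
  obtain ⟨a, b, hab⟩ := h.nab i
  exact hab (hc.is_comm.comm a b)

/-- the extension, nonabelian case -/
theorem exists_ext_nab (hB : AllBox.{u}) (P : Sylow 2 G) (hD : DG P) (N : Subgroup G) [N.Normal]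
    (hmin : ∀ K : Subgroup G, K.Normal → K ≤ N → K = ⊥ ∨ K = N) (hna : ¬ ∀ x ∈ N, ∀ y ∈ N, Commute x y)
    {θ : N → ℂ} (hθ : OddIrr θ) (hb : InB0 θ) (hinv : ∀ (g : G) (n : N), θ (MulAut.conjNormal g n) = θ n)
    {σ : ℂ ≃+* ℂ} (hσ : Sig σ) : ∃ η : G → ℂ, IsIrrCharacter G η ∧ (∀ n : N, η n = θ n) ∧ Fix σ η := by
  have := fact2
  obtain ⟨m, T, e, -, h⟩ := exists_sys N hmin hna
  refine exists_fixed_ext N (perf_of_min N hmin hna) hθ hinv hσ
    (fix_of_ff h P (fun i => ?_) hθ hb (fun g _ => hinv g) hσ)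
  obtain ⟨Q, hQ⟩ := S0542.result 2 (T i) (h.subnormal i) P
  exact (box_factor hB h i Q _ (frame_RR P (T i) hQ)).1 (dd_of_dg h P hD i hQ)

/-- the Gallagher step -/
theorem fix_of_ext (P : Sylow 2 G) (hD : DG P) (N : Subgroup G) [N.Normal] [Fintype N] (hF : FG (G ⧸ N))
    {χ : G → ℂ} (hχ : OddIrr χ) (hb : InB0 χ) {η : G → ℂ} (hη : IsIrrCharacter G η)
    (hηN : IsIrrCharacter N (fun n : N => η n)) (h0 : classInner (fun n : N => χ n) (fun n : N => η n) ≠ 0)
    {σ : ℂ ≃+* ℂ} (hσ : Sig σ) (hf : Fix σ η) : Fix σ χ := by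
  have := fact2
  have := Fintype.ofFinite G
  obtain ⟨M, hM⟩ := Cfsg.Agent.Blocks.ExistsModular.exists_isPModular Nat.prime_two
  have := isPrime_of_isPModular hM
  obtain ⟨β, hβ, hβN, hmul⟩ := CharactersDeep.CosetAverage.exists_irr_mul N η hη hηN χ hχ.1 h0
  have hs := QuotientGroup.mk'_surjective N
  obtain ⟨γ, hγ, hγβ⟩ := exists_quot (QuotientGroup.mk' N) hs hβ (by
    intro z hz
    rw [QuotientGroup.ker_mk'] at hz
    have h1 := hβN ⟨z, hz⟩ 1
    rwa [mul_one] at h1)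
  have hv : ∀ g, χ g = η g * γ (QuotientGroup.mk' N g) := fun g => by rw [hγβ, hmul, Pi.mul_apply]
  have h1 : OddIrr γ := by
    refine ⟨hγ, odd_iff'.1 (odd_of_mul (a := charDegree η) (odd_iff'.2 hχ.2) ?_).2⟩
    rw [← apply_one (isIrr_isCharacter hχ.1), ← apply_one (isIrr_isCharacter hη),
      ← apply_one (isIrr_isCharacter hγ), hv, map_one]
  have h2 : InB0 γ := by
    refine (inB0_iff_one (P.mapSurjective hs) hM h1).2 fun z hz ho => ?_
    obtain ⟨y, hy, hyo, rfl⟩ := exists_lift_odd P _ hs (centralizer_le_normalizer _ hz) ho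
    have h3 := (inB0_iff_one P hM hχ).1 hb y (hD y hy hyo) hyo
    have h4 : MemLocalRing M (γ (QuotientGroup.mk' N y)) := ring_char hM (isIrr_isCharacter hγ) _
    have h5 : ¬ MemLocalIdeal M (η y) := by
      intro h
      have h6 := memLocalIdeal_mul_right h h4
      rw [← hv, memLocalIdeal_iff_of_sub h3] at h6
      exact not_memLocalIdeal_one h6
    have h6 := sub_one_of_fix hM hσ (isIrr_isCharacter hη) hf hyo h5
    have h7 := memLocalIdeal_sub h3 (memLocalIdeal_mul_right h6 h4)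
    rw [hv] at h7
    convert h7 using 1
    ring
  intro g
  rw [hv, map_mul, hf g, hF γ h1 h2 σ hσ]

end char

theorem fg_of_dg_aux (hB : AllBox.{u}) (n : ℕ) :
    ∀ (G : Type u) [Group G] [Finite G], Nat.card G = n → ∀ P : Sylow 2 G, DG P → FG G := by
  induction n using Nat.strong_induction_on with
  | _ n ih =>
  intro G _ _ hn P hD χ hχ hb σ hσ
  have := fact2
  rcases subsingleton_or_nontrivial G with hG | hG
  · intro g
    rw [Subsingleton.elim g 1, apply_one (isIrr_isCharacter hχ.1), map_natCast]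
  obtain ⟨N, hN, hN0, hmin⟩ := H386.Factor.exists_min_normal (G := G)
  have := Fintype.ofFinite N
  obtain ⟨θ, hθ, h0⟩ := H113.NormTwoChar.exists_constituent (χ := fun n : N => χ n)
    (isCharacter_comp' N.subtype (isIrr_isCharacter hχ.1)) (by
      intro h
      have h1 : χ 1 = (0 : ℕ) := by simpa using congrFun h 1
      exact hχ.2 (by rw [charDegree_of h1]; exact dvd_zero 2))
  obtain ⟨T, ψ, hT, hTi, hψ, hψb, hψf⟩ := cliffB N hχ hb hθ h0
  by_cases hTt : T = ⊤
  · have hinv : ∀ (g : G) (n : N), θ (MulAut.conjNormal g n) = θ n := fun g => (hT g).1 (hTt ▸ mem_top g)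
    obtain ⟨e, he⟩ := exists_restrict N hχ.1 hθ hinv h0
    have hθb := inB0_under N hχ.1 hb h0
    have hθo : OddIrr θ := by
      refine ⟨hθ, odd_iff'.1 (odd_of_mul (a := e) (odd_iff'.2 hχ.2) ?_).2⟩
      rw [← apply_one (isIrr_isCharacter hχ.1), ← apply_one (isIrr_isCharacter hθ)]
      exact he 1
    have hex : ∃ η : G → ℂ, IsIrrCharacter G η ∧ (∀ n : N, η n = θ n) ∧ Fix σ η := by
      by_cases hc : ∀ x ∈ N, ∀ y ∈ N, Commute x y
      · exact exists_ext_comm N (fun a b => Subtype.ext (hc a a.2 b b.2)) hχ hθ hθb he hσ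
      · exact exists_ext_nab hB P hD N hmin hc hθo hθb hinv hσ
    obtain ⟨η, hη, hηθ, hf⟩ := hex
    have h1 : (fun n : N => η n) = θ := funext hηθ
    exact fix_of_ext P hD N (ih _ (hn ▸ Lib.SolvableNormalP.card_quotient_lt hN0) (G ⧸ N) rfl _
      (hD.quot _ (QuotientGroup.mk'_surjective N))) hχ hb hη (h1 ▸ hθ) (h1 ▸ h0) hσ hf
  · obtain ⟨S, hS⟩ := H700.PRatExt.exists_sylow_le T hTi
    have hlt : Nat.card T < n := by
      rw [← hn]
      exact lt_of_le_of_ne (card_le_card_group T) fun h => hTt (eq_top_of_card_eq T h)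
    exact hψf σ (ih _ hlt T rfl _ ((hD.sylow S).sub hS) ψ hψ hψb σ hσ)

/-- **the direction `⇒`** -/
theorem fg_of_dg (hB : AllBox.{u}) {G : Type u} [Group G] [Finite G] {P : Sylow 2 G} (hD : DG P) : FG G :=
  fg_of_dg_aux hB _ G rfl P hD

end Cfsg.Agent.GAL
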