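import Cfsg.Agent.GAL.Tools
import Cfsg.Agent.S0920
import Cfsg.Agent.S0953
import Cfsg.Agent.Blocks.BrauerHom
import Cfsg.Agent.Characters.Linear
import Cfsg.Agent.HKS.Glauberman
import Cfsg.Agent.S0205
import Cfsg.Agent.H627.BR.Grp

/-!
# Linear characters of the normalizer of a Sylow 2-subgroup (helper20, GAL)

* `sub_one_of_fix` : the values of a `σ`-fixed character at elements of odd order are `0` or `1` modulo `M`;
* `exists_odd_of_hom` : a character of odd degree which is congruent to a linear character of `N_G(P)` on `C_G(P)`;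
* `exists_moved` : if `DG P` holds and the linear character is nontrivial and trivial on `P`, it is moved by `σ`;
* `exists_hom_of_odd` : a nontrivial linear character which is trivial on a proper normal subgroup of odd index.
-/

set_option autoImplicit false

namespace Cfsg.Agent.GAL

open Cfsg Cfsg.Agent.H601.K4 Cfsg.Agent.TAB.Use Cfsg.Agent.ODD.Red Cfsg.Agent.Characters
open Cfsg.Agent.Characters.Core Cfsg.Agent.Blocks.Local Cfsg.Agent.Blocks.Basic Subgroup

universe u

variable {G : Type u} [Group G] [Finite G] {M : Ideal AlgInt}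

theorem odd_sub_one (hM : IsPModular 2 M) {n : ℕ} (hn : ¬ 2 ∣ n) : MemLocalIdeal M ((n : ℂ) - 1) := by
  have := isPrime_of_isPModular hM
  obtain ⟨k, rfl⟩ := odd_iff'.2 hn
  have h1 : ((2 * k + 1 : ℕ) : ℂ) - 1 = ((2 * k : ℕ) : ℂ) := by
    push_cast
    ring
  rw [h1, memLocalIdeal_natCast_iff hM]
  exact Dvd.intro k rfl

theorem deg_sub_one (hM : IsPModular 2 M) {χ : G → ℂ} (hχ : OddIrr χ) : MemLocalIdeal M (χ 1 - 1) := by
  rw [irr_one_eq_charDegree hχ.1]
  exact odd_sub_one hM hχ.2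

theorem ring_char (hM : IsPModular 2 M) {χ : G → ℂ} (hχ : IsCharacter G χ) (g : G) : MemLocalRing M (χ g) := by
  have := isPrime_of_isPModular hM
  exact memLocalRing_of_isIntegral (GaloisBasic.isIntegral_apply hχ g)

theorem sq_congr (hM : IsPModular 2 M) {χ : G → ℂ} (hχ : IsCharacter G χ) (g : G) :
    MemLocalIdeal M (χ g ^ 2 - χ (g ^ 2)) := by
  classical
  have := isPrime_of_isPModular hM
  obtain ⟨d, μ, -, h1, h2⟩ := GaloisBasic.isCharacter_exists_fin_pow hχ g (Nat.card_pos (α := G)).ne'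
    pow_card_eq_one'
  have h3 := h2 1
  rw [pow_one] at h3
  rw [h3, h2 2]
  have hμ : ∀ i, MemLocalRing M (μ i) := fun i => memLocalRing_of_isIntegral
    (IsIntegral.of_pow (Nat.card_pos (α := G)) (by rw [h1 i]; exact isIntegral_one))
  simp only [pow_one]
  induction (Finset.univ : Finset (Fin d)) using Finset.induction_on with
  | empty => simpa using memLocalIdeal_zero
  | insert a s ha ih =>
    rw [Finset.sum_insert ha, Finset.sum_insert ha]
    have h4 : (μ a + ∑ i ∈ s, μ i) ^ 2 - (μ a ^ 2 + ∑ i ∈ s, μ i ^ 2) =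
        ((∑ i ∈ s, μ i) ^ 2 - ∑ i ∈ s, μ i ^ 2) + ((2 : ℕ) : ℂ) * (μ a * ∑ i ∈ s, μ i) := by
      push_cast
      ring
    rw [h4]
    exact memLocalIdeal_add ih (memLocalIdeal_mul_right (memLocalIdeal_p hM)
      (memLocalRing_mul (hμ a) (memLocalRing_sum fun i _ => hμ i)))

/-- the values of a `σ`-fixed character at the elements of odd order -/
theorem sub_one_of_fix (hM : IsPModular 2 M) {σ : ℂ ≃+* ℂ} (hσ : Sig σ) {χ : G → ℂ} (hχ : IsCharacter G χ)
    (hf : Fix σ χ) {y : G} (hy : Odd (orderOf y)) (h0 : ¬ MemLocalIdeal M (χ y)) : MemLocalIdeal M (χ y - 1) := by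
  have := isPrime_of_isPModular hM
  have h1 := sq_congr hM hχ y
  rw [← map_odd hσ hχ hy, hf y, show χ y ^ 2 - χ y = χ y * (χ y - 1) by ring] at h1
  exact (memLocalIdeal_or_of_mul (ring_char hM hχ y) (memLocalRing_sub (ring_char hM hχ y) memLocalRing_one)
    h1).resolve_left h0

/-- **a character of odd degree attached to a linear character of the normalizer** -/
theorem exists_odd_of_hom (hM : IsPModular 2 M) (P : Sylow 2 G) (β : normalizer ((P : Subgroup G) : Set G) →* ℂˣ) :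
    ∃ χ : G → ℂ, OddIrr χ ∧ ∀ x : normalizer ((P : Subgroup G) : Set G),
      (x : G) ∈ centralizer ((P : Subgroup G) : Set G) → MemLocalIdeal M (χ x - β x) := by
  have := fact2
  have := isPrime_of_isPModular hM
  have hξ := Linear.isIrrCharacter_hom β
  obtain ⟨χ', hχ'⟩ := Blocks.BrauerHom.exists_irr_brauer hM P.isPGroup' (centralizer_le_normalizer _) le_rfl hξ
  have hB := isPBlock_blockOf (M := M) χ'
  obtain ⟨g, hg⟩ := S0906.result 2 M hM _ hB
  have h1 : brauerCentralChar (P : Subgroup G) (normalizer ((P : Subgroup G) : Set G)) (fun x => (β x : ℂ)) g ≠ 0 := by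
    intro h0
    have h2 := hχ' g
    rw [h0, zero_sub, memLocalIdeal_neg_iff] at h2
    exact hg.2.2 χ' (mem_blockOf_self χ') h2
  have h2 : ∃ h : G, IsConj g h ∧ h ∈ centralizer ((P : Subgroup G) : Set G) := by
    by_contra hcon
    apply h1
    rw [brauerCentralChar_def]
    refine finsum_mem_of_eqOn_zero fun h hh => ?_
    exact absurd ⟨h, hh⟩ hcon
  obtain ⟨h, hgh, hh⟩ := h2
  have hD : IsDefectGroup 2 M (blockOf M (χ' : G → ℂ)) (P : Subgroup G) :=
    isDefectGroup_iff.2 ⟨h, isDefectClass_isConj hgh hg, Blocks.FullDefect.isSylowCentralizer_of_mem P hh⟩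
  obtain ⟨χ, hχ, hd⟩ := S0953.exists_degree_of_isDefectGroup hM P hB hD
  have hodd : OddIrr (χ : G → ℂ) := ⟨χ.2, hd⟩
  refine ⟨χ, hodd, fun x hx => ?_⟩
  let P' : Sylow 2 (normalizer ((P : Subgroup G) : Set G)) := P.subtype le_normalizer
  have hle : (P' : Subgroup _) ≤ centralizer ({x} : Set (normalizer ((P : Subgroup G) : Set G))) := by
    intro y hy
    rw [mem_centralizer_singleton_iff]
    exact Subtype.ext (mem_centralizer_iff.1 hx y hy)
  have hcard : Nat.card (P : Subgroup G) = 2 ^ (Nat.card (centralizer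
      ({x} : Set (normalizer ((P : Subgroup G) : Set G))))).factorization 2 := by
    rw [← (P'.subtype hle).card_eq_multiplicity]
    have e1 : Nat.card (P'.subtype hle) = Nat.card P' := Nat.card_congr (subgroupOfEquivOfLe hle).toEquiv
    have e2 : Nat.card P' = Nat.card P := Nat.card_congr (subgroupOfEquivOfLe le_normalizer).toEquiv
    rw [e1, e2]
  have h3 := (S0920.brauerCentralChar_eq (P : Subgroup G) _ rfl P.isPGroup' x hle hcard).2.2 ⟨_, hξ⟩
  have h4 := memLocalIdeal_sub_trans (hχ' x) (hχ x)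
  have h5 : brauerCentralChar (P : Subgroup G) (normalizer ((P : Subgroup G) : Set G)) (fun x => (β x : ℂ)) x =
      centralChar (fun x => (β x : ℂ)) x := h3
  rw [h5, centralChar_def, centralChar_def] at h4
  simp only [map_one, Units.val_one, div_one] at h4
  have ha : ¬ 2 ∣ (centralizer ({(x : G)} : Set G)).index := Blocks.FullDefect.not_dvd_index P hx
  have hb : ¬ 2 ∣ (centralizer ({x} : Set (normalizer ((P : Subgroup G) : Set G)))).index :=
    fun h => P'.not_dvd_index (h.trans (index_dvd_of_le hle))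
  set a := (centralizer ({(x : G)} : Set G)).index
  set b := (centralizer ({x} : Set (normalizer ((P : Subgroup G) : Set G)))).index
  have hβ : MemLocalRing M (β x : ℂ) := ring_char hM (isIrr_isCharacter hξ) x
  have hχx := ring_char hM (isIrr_isCharacter χ.2) (x : G)
  have hχ1 := ring_char hM (isIrr_isCharacter χ.2) 1
  have h0 := irr_one_ne_zero χ.2
  have h6 : (χ : G → ℂ) x - β x = -((χ : G → ℂ) 1 * (b * (β x : ℂ) - a * (χ : G → ℂ) x / (χ : G → ℂ) 1)) +
      (-(((a : ℂ) - 1) * (χ : G → ℂ) x) + (((χ : G → ℂ) 1 - 1) * (b * (β x : ℂ)) + ((b : ℂ) - 1) * (β x : ℂ))) := by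
    field_simp
    ring
  rw [h6]
  refine memLocalIdeal_add (memLocalIdeal_neg (memLocalIdeal_mul_left hχ1 h4)) (memLocalIdeal_add
    (memLocalIdeal_neg (memLocalIdeal_mul_right (odd_sub_one hM ha) hχx)) (memLocalIdeal_add
    (memLocalIdeal_mul_right (deg_sub_one hM hodd) (memLocalRing_mul (memLocalRing_natCast _) hβ))
    (memLocalIdeal_mul_right (odd_sub_one hM hb) hβ)))

/-- the elements of `N_G(P)` -/
theorem exists_decomp_norm (P : Sylow 2 G) {h : G} (hh : h ∈ normalizer ((P : Subgroup G) : Set G)) :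
    ∃ u ∈ (P : Subgroup G), ∃ y ∈ zpowers h, Odd (orderOf y) ∧ h = u * y := by
  have := fact2
  obtain ⟨u, y, h1, -, h3, h4⟩ := H618.Sigma.exists_decomp (⟨h, mem_zpowers h⟩ : zpowers h)
  refine ⟨u, ?_, y, y.2, by rwa [orderOf_coe], (congrArg Subtype.val h1).symm⟩
  obtain ⟨j, hj⟩ := h3
  refine H627.BR.mem_of_pel P ⟨j, ?_⟩ fun x hx => (mem_normalizer_iff.1 (zpowers_le.2 hh u.2) x).1 hx
  rw [← hj, ← orderOf_coe, pow_orderOf_eq_one]

/-- **a moved character** -/
theorem exists_moved (hM : IsPModular 2 M) (P : Sylow 2 G) (hD : DG P)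
    (β : normalizer ((P : Subgroup G) : Set G) →* ℂˣ)
    (hP : ∀ x : normalizer ((P : Subgroup G) : Set G), (x : G) ∈ (P : Subgroup G) → β x = 1) (hβ : ∃ x, β x ≠ 1) :
    ∃ χ : G → ℂ, OddIrr χ ∧ (∀ x : normalizer ((P : Subgroup G) : Set G),
      (x : G) ∈ centralizer ((P : Subgroup G) : Set G) → MemLocalIdeal M (χ x - β x)) ∧
      ∀ σ, Sig σ → ¬ Fix σ χ := by
  have := fact2
  have := isPrime_of_isPModular hM
  obtain ⟨χ, h1, h2⟩ := exists_odd_of_hom hM P β
  refine ⟨χ, h1, h2, fun σ hσ hf => ?_⟩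
  obtain ⟨x, hx⟩ := hβ
  obtain ⟨u, hu, y, hy, ho, hxy⟩ := exists_decomp_norm P x.2
  have hyN : y ∈ normalizer ((P : Subgroup G) : Set G) := zpowers_le.2 x.2 hy
  have h3 : x = ⟨u, le_normalizer hu⟩ * ⟨y, hyN⟩ := Subtype.ext hxy
  rw [h3, map_mul, hP _ hu, one_mul] at hx
  apply hx
  have h4 : MemLocalIdeal M (χ y - β ⟨y, hyN⟩) := h2 ⟨y, hyN⟩ (hD y hyN ho)
  have h5 : (β ⟨y, hyN⟩ : ℂ) ^ orderOf y = 1 := by
    rw [← Units.val_pow_eq_pow_val, ← map_pow, ← orderOf_mk y hyN, pow_orderOf_eq_one, map_one, Units.val_one]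
  have hβR : MemLocalRing M (β ⟨y, hyN⟩ : ℂ) := ring_char hM (isIrr_isCharacter (Linear.isIrrCharacter_hom β)) _
  have h6 : ¬ MemLocalIdeal M (χ y) := by
    rw [memLocalIdeal_iff_of_sub h4]
    intro h
    have h7 := memLocalIdeal_pow h (orderOf_pos y).ne'
    rw [h5] at h7
    exact not_memLocalIdeal_one h7
  have h7 := sub_one_of_fix hM hσ (isIrr_isCharacter h1.1) hf ho h6
  apply Units.ext
  exact H700.PrinCrit.eq_one_of_sub_mem hM (odd_iff'.1 ho) h5
    (memLocalIdeal_sub_trans (memLocalIdeal_sub_comm h4) h7)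

/-- a nontrivial linear character, trivial on a proper normal subgroup of odd index -/
theorem exists_hom_of_odd (L : Subgroup G) [L.Normal] (hL : ¬ 2 ∣ L.index) (hne : L ≠ ⊤) :
    ∃ β : G →* ℂˣ, (∀ x ∈ L, β x = 1) ∧ ∃ x, β x ≠ 1 := by
  have : Nontrivial (G ⧸ L) := QuotientGroup.nontrivial_iff.2 hne
  obtain ⟨f, x, hx⟩ := HKS.Glauberman.exists_hom_ne (G ⧸ L) (S0205.result (odd_iff'.2 hL))
  obtain ⟨g, rfl⟩ := QuotientGroup.mk_surjective x
  refine ⟨f.comp (QuotientGroup.mk' L), fun y hy => ?_, g, hx⟩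
  show f (y : G ⧸ L) = 1
  rw [(QuotientGroup.eq_one_iff y).2 hy, map_one]

end Cfsg.Agent.GAL
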