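import Cfsg.Agent.GAL.Red.Coord
import Cfsg.Agent.GAL.Red.Lin
import Cfsg.Agent.H663.GmnPi
import Cfsg.Agent.H620.PN.Regular

/-!
# The factors of a nonabelian minimal normal subgroup, characters (helper20, GAL)

* `fix_of_ff` : if `FF` holds for all factors, the `P`-invariant odd characters of `B₀(N)` are fixed by `σ`;
* `moved_of_not_ff` : the converse.
-/

set_option autoImplicit false

namespace Cfsg.Agent.GAL

open Cfsg Cfsg.Agent.H601.K4 Cfsg.Agent.TAB.Use Cfsg.Agent.ODD.Red Cfsg.Agent.Characters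
open Cfsg.Agent.Characters.Core Cfsg.Agent.Blocks.Local Cfsg.Agent.Blocks.Basic Subgroup
open Cfsg.Agent.H803.S74 Cfsg.Agent.H713

universe u

theorem prod_sub_one {M : Ideal AlgInt} [M.IsPrime] {ι : Type*} (s : Finset ι) {f : ι → ℂ}
    (h : ∀ i ∈ s, MemLocalIdeal M (f i - 1)) : MemLocalIdeal M (∏ i ∈ s, f i - 1) := by
  classical
  induction s using Finset.induction_on with
  | empty => simpa using memLocalIdeal_zero
  | insert a s ha ih =>
    rw [Finset.prod_insert ha]
    have h1 := h a (Finset.mem_insert_self a s)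
    have h2 := ih fun i hi => h i (Finset.mem_insert_of_mem hi)
    have h3 : MemLocalRing M (f a) := (memLocalRing_iff_of_sub h1).2 memLocalRing_one
    rw [show f a * ∏ i ∈ s, f i - 1 = f a * (∏ i ∈ s, f i - 1) + (f a - 1) by ring]
    exact memLocalIdeal_add (memLocalIdeal_mul_left h3 h2) h1

/-- the criterion for the principal block, with the value `1` -/
theorem inB0_iff_one {G : Type u} [Group G] [Finite G] (P : Sylow 2 G) {M : Ideal AlgInt} (hM : IsPModular 2 M)
    {χ : G → ℂ} (hχ : OddIrr χ) :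
    InB0 χ ↔ ∀ y ∈ centralizer ((P : Subgroup G) : Set G), Odd (orderOf y) → MemLocalIdeal M (χ y - 1) := by
  have := isPrime_of_isPModular hM
  rw [inB0_iff P hM hχ]
  exact ⟨fun h y hy ho => memLocalIdeal_sub_trans (h y hy ho) (deg_sub_one hM hχ),
    fun h y hy ho => memLocalIdeal_sub_trans (h y hy ho) (memLocalIdeal_sub_comm (deg_sub_one hM hχ))⟩

theorem oddIrr_one (G : Type u) [Group G] : OddIrr (fun _ : G => (1 : ℂ)) :=
  ⟨isIrrCharacter_one, by rw [charDegree_of_eq (n := 1) (by simp)]; norm_num⟩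

theorem inB0_one (G : Type u) [Group G] : InB0 (fun _ : G => (1 : ℂ)) := by
  intro M hM _
  have := isPrime_of_isPModular hM
  exact sameBlock_refl _

variable {G : Type u} [Group G] [Finite G] {N : Subgroup G} [N.Normal] {m : ℕ} {T : Fin m → Subgroup G}
  {e : N ≃* ∀ i, T i}

omit [Finite G] [N.Normal] in
theorem val_single (h : Sys N T e) {θ : N → ℂ} {f : ∀ i, T i → ℂ} (hf : ∀ n, θ n = ∏ i, f i (e n i)) (i : Fin m)
    (t : T i) : θ ⟨t, h.le i t.2⟩ = f i t * ∏ j ∈ Finset.univ.erase i, f j 1 := by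
  rw [hf, coord_self h, ← Finset.mul_prod_erase Finset.univ _ (Finset.mem_univ i), Pi.mulSingle_eq_same]
  congr 1
  exact Finset.prod_congr rfl fun j hj => by rw [Pi.mulSingle_eq_of_ne (Finset.ne_of_mem_erase hj)]

omit [Finite G] [N.Normal] in
theorem deg_prod {θ : N → ℂ} {f : ∀ i, T i → ℂ} (hf : ∀ n, θ n = ∏ i, f i (e n i))
    (hi : ∀ i, IsIrrCharacter (T i) (f i)) : charDegree θ = ∏ i, charDegree (f i) := by
  apply charDegree_of_eq
  rw [hf, map_one, Nat.cast_prod]
  exact Finset.prod_congr rfl fun i _ => irr_one_eq_charDegree (hi i)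

/-- a product character is in the principal block iff its factors are -/
theorem inB0_prod (h : Sys N T e) (P : Sylow 2 G) {θ : N → ℂ} {f : ∀ i, T i → ℂ} (hf : ∀ n, θ n = ∏ i, f i (e n i))
    (hθ : OddIrr θ) (hi : ∀ i, OddIrr (f i)) : InB0 θ ↔ ∀ i, InB0 (f i) := by
  have := fact2
  obtain ⟨M, hM⟩ := Cfsg.Agent.Blocks.ExistsModular.exists_isPModular Nat.prime_two
  have := isPrime_of_isPModular hM
  obtain ⟨QN, hQN⟩ := S0542.result 2 N (Normal.isSubnormal inferInstance) P
  choose Q hQ using fun i => S0542.result 2 (T i) (h.subnormal i) P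
  rw [inB0_iff_one QN hM hθ]
  constructor
  · intro h1 i
    rw [inB0_iff_one (Q i) hM (hi i)]
    intro y hy ho
    have h2 := h1 ⟨y, h.le i y.2⟩ (by
      rw [mem_centralizer_iff]
      intro q hq
      rw [SetLike.mem_coe, hQN] at hq
      apply e.injective
      rw [map_mul, map_mul, coord_self h]
      funext j
      rw [Pi.mul_apply, Pi.mul_apply]
      by_cases hj : j = i
      · subst hj
        rw [Pi.mulSingle_eq_same]
        refine mem_centralizer_iff.1 hy _ ?_
        rw [SetLike.mem_coe, hQ]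
        exact (mem_iff_coord h P q).1 hq j
      · rw [Pi.mulSingle_eq_of_ne hj, mul_one, one_mul]) (by rwa [orderOf_mk, orderOf_coe])
    rw [val_single h hf] at h2
    have h3 : MemLocalIdeal M (∏ j ∈ Finset.univ.erase i, f j 1 - 1) :=
      prod_sub_one _ fun j _ => deg_sub_one hM (hi j)
    rw [show f i y - 1 = (f i y * ∏ j ∈ Finset.univ.erase i, f j 1 - 1) -
      f i y * (∏ j ∈ Finset.univ.erase i, f j 1 - 1) by ring]
    exact memLocalIdeal_sub h2 (memLocalIdeal_mul_left (ring_char hM (isIrr_isCharacter (hi i).1) y) h3)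
  · intro h1 y hy ho
    rw [hf]
    refine prod_sub_one _ fun i _ => (inB0_iff_one (Q i) hM (hi i)).1 (h1 i) _ ?_ ?_
    · rw [mem_centralizer_iff]
      intro q hq
      rw [SetLike.mem_coe, hQ] at hq
      have h2 := mem_centralizer_iff.1 hy ⟨q, h.le i q.2⟩ (by rw [SetLike.mem_coe, hQN]; exact hq)
      have h3 := congrFun (congrArg e h2) i
      rwa [map_mul, map_mul, coord_self h, Pi.mul_apply, Pi.mul_apply, Pi.mulSingle_eq_same] at h3
    · exact ho.of_dvd_nat (orderOf_map_dvd ((Pi.evalMonoidHom (fun j => T j) i).comp e.toMonoidHom) y)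

/-- **the invariant characters of `B₀(N)` are fixed** -/
theorem fix_of_ff (h : Sys N T e) (P : Sylow 2 G) (hF : ∀ i, FF (RR (P : Subgroup G) (T i))) {θ : N → ℂ}
    (hθ : OddIrr θ) (hb : InB0 θ) (hinv : ∀ g ∈ (P : Subgroup G), ∀ n : N, θ (MulAut.conjNormal g n) = θ n)
    {σ : ℂ ≃+* ℂ} (hσ : Sig σ) : Fix σ θ := by
  obtain ⟨f, hi, hf'⟩ := H663.GmnStep.exists_pi_dep m (fun i => T i) _
    (isIrr_comp e.symm.toMonoidHom e.symm.surjective hθ.1)
  have hf : ∀ n, θ n = ∏ i, f i (e n i) := by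
    intro n
    rw [← hf']
    show θ n = θ (e.symm (e n))
    rw [e.symm_apply_apply]
  have hodd : ∀ i, OddIrr (f i) := by
    intro i
    refine ⟨hi i, fun h2 => hθ.2 ?_⟩
    rw [deg_prod hf hi]
    exact h2.trans (Finset.dvd_prod_of_mem (fun i => charDegree (f i)) (Finset.mem_univ i))
  have hB := (inB0_prod h P hf hθ hodd).1 hb
  have h1 : ∀ i, Fix σ (f i) := by
    intro i
    refine hF i (f i) (hodd i) (hB i) ?_ σ hσ
    rintro r ⟨g, hg, hr⟩ t
    have h2 := hinv g hg ⟨t, h.le i t.2⟩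
    have h3 : MulAut.conjNormal g (⟨t, h.le i t.2⟩ : N) = ⟨r t, h.le i (r t).2⟩ := Subtype.ext (hr t).symm
    rw [h3, val_single h hf, val_single h hf] at h2
    exact mul_right_cancel₀ (Finset.prod_ne_zero_iff.2 fun j _ => irr_one_ne_zero (hi j)) h2
  intro n
  rw [hf, map_prod]
  exact Finset.prod_congr rfl fun i _ => h1 i _

/-- **a moved invariant character of `B₀(N)`** -/
theorem moved_of_not_ff (h : Sys N T e) (P : Sylow 2 G) {i : Fin m} (hF : ¬ FF (RR (P : Subgroup G) (T i))) :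
    ∃ θ : N → ℂ, OddIrr θ ∧ InB0 θ ∧ (∀ g ∈ (P : Subgroup G), ∀ n : N, θ (MulAut.conjNormal g n) = θ n) ∧
      ∃ σ, Sig σ ∧ ¬ Fix σ θ := by
  classical
  unfold FF at hF
  push Not at hF
  obtain ⟨φ, h1, h2, h3, τ, hτ, h4⟩ := hF
  obtain ⟨σ, hσ⟩ := h.exists_sigma
  obtain ⟨t, hti, ht⟩ := exists_reps σ (P : Subgroup G) i
  let Φ : G → ℂ := fun x => if hx : x ∈ T i then φ ⟨x, hx⟩ else 0
  have hΦ : ∀ x : T i, Φ x = φ x := fun x => by simp only [Φ, dif_pos x.2]
  let f : ∀ j, T j → ℂ := fun j x => if ∃ u ∈ (P : Subgroup G), σ u i = j then Φ ((t j)⁻¹ * x * t j) else 1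
  have hf1 : ∀ j, (∃ u ∈ (P : Subgroup G), σ u i = j) → ∀ x : T j, f j x = Φ ((t j)⁻¹ * x * t j) := by
    intro j hj x
    simp only [f, if_pos hj]
  have hf2 : ∀ j, ¬ (∃ u ∈ (P : Subgroup G), σ u i = j) → f j = fun _ => 1 := by
    intro j hj
    funext x
    simp only [f, if_neg hj]
  have hgood : ∀ j, OddIrr (f j) ∧ InB0 (f j) := by
    intro j
    by_cases hj : ∃ u ∈ (P : Subgroup G), σ u i = j
    · have h5 := hσ (t j) i
      rw [(ht j hj).2] at h5
      have h6 : f j = fun x => φ ((conjIso (t j) h5).symm x) := by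
        funext x
        rw [hf1 j hj, ← hΦ]
        congr 1
        obtain ⟨y, rfl⟩ := (conjIso (t j) h5).surjective x
        rw [MulEquiv.symm_apply_apply, conjIso_apply]
        group
      rw [h6]
      exact ⟨oddIrr_comp (f := (conjIso (t j) h5).symm.toMonoidHom) (conjIso (t j) h5).symm.surjective h1,
        inB0_equiv _ h1 h2⟩
    · rw [hf2 j hj]
      exact ⟨oddIrr_one _, inB0_one _⟩
  let θ : N → ℂ := fun n => ∏ j, f j (e n j)
  have hf : ∀ n, θ n = ∏ j, f j (e n j) := fun _ => rfl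
  have hθ : OddIrr θ := by
    refine ⟨isIrr_comp e.toMonoidHom e.surjective (H620.PN.isIrr_piDep fun j => (hgood j).1.1), ?_⟩
    rw [deg_prod hf fun j => (hgood j).1.1, Prime.dvd_finsetProd_iff Nat.prime_two.prime]
    rintro ⟨j, -, hj⟩
    exact (hgood j).1.2 hj
  refine ⟨θ, hθ, (inB0_prod h P hf hθ fun j => (hgood j).1).2 fun j => (hgood j).2, fun u hu n => ?_, τ, hτ, ?_⟩
  · rw [hf, hf, ← Equiv.prod_comp (σ u)]
    refine Finset.prod_congr rfl fun k _ => ?_
    by_cases hk : ∃ v ∈ (P : Subgroup G), σ v i = k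
    · have hj := (orb_iff σ hu i k).2 hk
      rw [hf1 _ hk, hf1 _ hj, coord_sig h hσ u rfl]
      have hs : (t (σ u k))⁻¹ * u * t k ∈ (P : Subgroup G) := mul_mem (mul_mem (inv_mem (ht _ hj).1) hu) (ht _ hk).1
      have h5 := hσ ((t (σ u k))⁻¹ * u * t k) i
      rw [stab_of_reps σ (ht _ hj).2 (ht _ hk).2] at h5
      obtain ⟨r, hr, hr'⟩ := exists_RR hs h5
      have h6 : (t k)⁻¹ * (e n k : G) * t k ∈ T i := by
        have h7 := Sys.mem_sigma hσ (g := (t k)⁻¹) (e n k).2
        have h8 : σ (t k)⁻¹ k = i := by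
          rw [map_inv, Equiv.Perm.inv_eq_iff_eq, (ht _ hk).2]
        rwa [h8, inv_inv] at h7
      have h7 := h3 r hr ⟨_, h6⟩
      rw [← hΦ, ← hΦ, hr'] at h7
      rw [← h7]
      congr 1
      group
    · rw [hf2 _ hk, hf2 _ (fun hj => hk ((orb_iff σ hu i k).1 hj))]
  · intro hfix
    apply h4
    intro x
    have h5 := hfix ⟨x, h.le i x.2⟩
    rw [val_single h hf, map_mul, map_prod] at h5
    have h6 : ∏ j ∈ Finset.univ.erase i, τ (f j 1) = ∏ j ∈ Finset.univ.erase i, f j 1 :=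
      Finset.prod_congr rfl fun j _ => by rw [irr_one_eq_charDegree (hgood j).1.1, map_natCast]
    rw [h6] at h5
    have h7 := mul_right_cancel₀ (Finset.prod_ne_zero_iff.2 fun j _ => irr_one_ne_zero (hgood j).1.1) h5
    rw [hf1 i ⟨1, one_mem _, by rw [map_one]; rfl⟩, hti, inv_one, one_mul, mul_one, hΦ] at h7
    exact h7

end Cfsg.Agent.GAL
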